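import Mathlib
import Cfsg.Agent.Mrg.Omega.CaseL.Base
import Cfsg.Agent.Mrg.Omega.NO3S.Pt.Path

section


/-!
# NO-3S, `q = 2`: duality tools (helper804 #14168), abstract part

`DW q W K` : `q` is an involution (or 1) of the elementary abelian 2-group `W`, and `K ≤ C_G(q)` acts on `W` by
`k w k⁻¹ ∈ {w, q w}`; `nn W K = C_W(K)`.

* `DW.dual` (D0) : `C_W(C_K(U)) = U C_W(K)` for `U ≤ W`; `DW.exists_mover` : the same, in elements;
* `DW.comm_mem` (D2) : `p ∈ W`, `X ≤ C(q) ∩ N(W) ∩ N(K)` normalised by `C_K(p)`, `w ∈ C_W(X ∩ K)`: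
  `[w, X] ≤ ⟨p⟩ C_W(K)`; `DW.comm_mem'` : the same for all `w ∈ W` if `q ∉ X`, `W ≤ N(X)`;
* `DW.count` (D4), in the general form: `b` centralises `X ∩ K` and `q ∉ [b, A]`; `DW.count'` : `q ∉ X`;
* `DW.exists_e` (D5) : if no element of `b C_W(x)` centralises `E ≤ K`, some `e ∈ E` has `[b, e] = q` and
  `C_W(x) ≤ C_W(e)`;
* `inf_conj_eq` (D7).
-/

set_option autoImplicit false

namespace Cfsg.Agent.Omega.NO3S.Dual

open Subgroup

variable {G : Type*} [Group G]

/-- `C_W(K)` -/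
def nn (W K : Subgroup G) : Subgroup G := W ⊓ centralizer (K : Set G)

theorem mem_nn {W K : Subgroup G} {w : G} : w ∈ nn W K ↔ w ∈ W ∧ ∀ k ∈ K, k * w = w * k := by
  unfold nn
  rw [mem_inf, mem_centralizer_iff]
  rfl

/-- `K` acts on the elementary abelian 2-group `W` by multiplication with `1` or `q ∈ W`. -/
structure DW (q : G) (W K : Subgroup G) : Prop where
  q_mem : q ∈ W
  comm : ∀ a ∈ W, ∀ b ∈ W, a * b = b * a
  sq : ∀ a ∈ W, a * a = 1
  cent : ∀ k ∈ K, k * q = q * k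
  act : ∀ k ∈ K, ∀ w ∈ W, k * w * k⁻¹ = w ∨ k * w * k⁻¹ = q * w

theorem comm_of_conj_eq {a b : G} (h : a * b * a⁻¹ = b) : a * b = b * a := by
  calc a * b = (a * b * a⁻¹) * a := by group
    _ = b * a := by rw [h]

theorem conj_eq_of_comm {a b : G} (h : a * b = b * a) : a * b * a⁻¹ = b := by
  rw [h]; group

theorem card_mul_relIndex_of_le {H K : Subgroup G} (h : H ≤ K) : Nat.card H * H.relIndex K = Nat.card K := by
  have h1 := Subgroup.relIndex_mul_relIndex ⊥ H K bot_le h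
  rwa [relIndex_bot_left, relIndex_bot_left] at h1

/-- the product of two commuting subgroups -/
theorem mem_sup_of_comm {W A B : Subgroup G} (hW : ∀ a ∈ W, ∀ b ∈ W, a * b = b * a) (hA : A ≤ W)
    (hB : B ≤ W) {x : G} (hx : x ∈ A ⊔ B) : ∃ a ∈ A, ∃ b ∈ B, x = a * b := by
  let D : Subgroup G :=
    { carrier := {x | ∃ a ∈ A, ∃ b ∈ B, x = a * b}
      mul_mem' := by
        rintro _ _ ⟨a, ha, b, hb, rfl⟩ ⟨a', ha', b', hb', rfl⟩
        refine ⟨a * a', mul_mem ha ha', b * b', mul_mem hb hb', ?_⟩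
        calc a * b * (a' * b') = a * (b * a') * b' := by group
          _ = a * (a' * b) * b' := by rw [hW b (hB hb) a' (hA ha')]
          _ = a * a' * (b * b') := by group
      one_mem' := ⟨1, one_mem _, 1, one_mem _, by simp⟩
      inv_mem' := by
        rintro _ ⟨a, ha, b, hb, rfl⟩
        refine ⟨a⁻¹, inv_mem ha, b⁻¹, inv_mem hb, ?_⟩
        rw [hW a (hA ha) b (hB hb)]
        group }
  have h1 : A ⊔ B ≤ D := sup_le (fun a ha => ⟨a, ha, 1, one_mem _, by simp⟩)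
    fun b hb => ⟨1, one_mem _, b, hb, by simp⟩
  exact h1 hx

namespace DW

variable {q : G} {W K : Subgroup G}

theorem mono (h : DW q W K) {E : Subgroup G} (hE : E ≤ K) : DW q W E :=
  ⟨h.q_mem, h.comm, h.sq, fun k hk => h.cent k (hE hk), fun k hk => h.act k (hE hk)⟩

theorem inv_eq (h : DW q W K) {a : G} (ha : a ∈ W) : a⁻¹ = a := inv_eq_of_mul_eq_one_left (h.sq a ha)

theorem qq (h : DW q W K) : q * q = 1 := h.sq q h.q_mem

theorem q_mem_nn (h : DW q W K) : q ∈ nn W K := mem_nn.2 ⟨h.q_mem, h.cent⟩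

/-- a product of two movers is not a mover -/
theorem two_movers (h : DW q W K) {k k' u : G} (hk : k ∈ K) (hk' : k' ∈ K) (hu : k * u * k⁻¹ = q * u)
    (hu' : k' * u * k'⁻¹ = q * u) : k' * k⁻¹ * u = u * (k' * k⁻¹) := by
  have e1 : k⁻¹ * (q * u) * k = u := by
    calc k⁻¹ * (q * u) * k = k⁻¹ * (k * u * k⁻¹) * k := by rw [hu]
      _ = u := by group
  have hq1 : k⁻¹ * q * k = q := by
    have := h.cent k hk
    calc k⁻¹ * q * k = k⁻¹ * (q * k) := by group
      _ = k⁻¹ * (k * q) := by rw [this]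
      _ = q := by group
  have e2 : k⁻¹ * u * k = q * u := by
    have h1 : q * (k⁻¹ * u * k) = u := by
      calc q * (k⁻¹ * u * k) = (k⁻¹ * q * k) * (k⁻¹ * u * k) := by rw [hq1]
        _ = k⁻¹ * (q * u) * k := by group
        _ = u := e1
    calc k⁻¹ * u * k = q * q * (k⁻¹ * u * k) := by rw [h.qq, one_mul]
      _ = q * (q * (k⁻¹ * u * k)) := by group
      _ = q * u := by rw [h1]
  refine comm_of_conj_eq ?_
  have hq2 : k' * q * k'⁻¹ = q := conj_eq_of_comm (h.cent k' hk')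
  calc k' * k⁻¹ * u * (k' * k⁻¹)⁻¹ = k' * (k⁻¹ * u * k) * k'⁻¹ := by group
    _ = (k' * q * k'⁻¹) * (k' * u * k'⁻¹) := by rw [e2]; group
    _ = q * q * u := by rw [hq2, hu']; group
    _ = u := by rw [h.qq, one_mul]

/-- (D0) for the subgroup generated by a finite set -/
theorem dual_aux (h : DW q W K) (s : Finset G) (hs : ∀ u ∈ s, u ∈ W) :
    ∀ w ∈ W, (∀ k ∈ K, (∀ u ∈ s, k * u = u * k) → k * w = w * k) →
      w ∈ closure (s : Set G) ⊔ nn W K := by
  classical
  induction s using Finset.induction_on with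
  | empty =>
    intro w hw hk
    exact mem_sup_right (mem_nn.2 ⟨hw, fun k hk' => hk k hk' (by simp)⟩)
  | insert u s hus ih =>
    intro w hw hkw
    have hs' : ∀ v ∈ s, v ∈ W := fun v hv => hs v (Finset.mem_insert_of_mem hv)
    have hu : u ∈ W := hs u (Finset.mem_insert_self u s)
    have hle : closure (s : Set G) ⊔ nn W K ≤ closure ((insert u s : Finset G) : Set G) ⊔ nn W K :=
      sup_le_sup_right (Subgroup.closure_mono (by simp)) _
    have hu' : u ∈ closure ((insert u s : Finset G) : Set G) ⊔ nn W K :=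
      mem_sup_left (subset_closure (by simp))
    by_cases hA : ∀ k ∈ K, (∀ v ∈ s, k * v = v * k) → k * u = u * k
    · refine hle (ih hs' w hw fun k hk hks => hkw k hk fun v hv => ?_)
      rcases Finset.mem_insert.1 hv with rfl | hv
      · exact hA k hk hks
      · exact hks v hv
    · push Not at hA
      obtain ⟨k, hk, hks, hku⟩ := hA
      have hku' : k * u * k⁻¹ = q * u := (h.act k hk u hu).resolve_left fun e => hku (comm_of_conj_eq e)
      -- the correction of `w`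
      have key : ∀ w' ∈ W, k * w' = w' * k →
          (∀ k' ∈ K, (∀ v ∈ s, k' * v = v * k') → k' * u = u * k' → k' * w' = w' * k') →
          w' ∈ closure (s : Set G) ⊔ nn W K := by
        intro w' hw' hkw' hk2
        refine ih hs' w' hw' fun k' hk' hks' => ?_
        by_cases hk'u : k' * u = u * k'
        · exact hk2 k' hk' hks' hk'u
        · have hk'u' : k' * u * k'⁻¹ = q * u :=
            (h.act k' hk' u hu).resolve_left fun e => hk'u (comm_of_conj_eq e)
          have h1 := h.two_movers hk hk' hku' hk'u'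
          have h2 := hk2 _ (mul_mem hk' (inv_mem hk)) (fun v hv => by
            have e1 := hks v hv
            have e2 := hks' v hv
            have e3 : k⁻¹ * v = v * k⁻¹ := by
              calc k⁻¹ * v = k⁻¹ * (v * k) * k⁻¹ := by group
                _ = k⁻¹ * (k * v) * k⁻¹ := by rw [e1]
                _ = v * k⁻¹ := by group
            calc k' * k⁻¹ * v = k' * (k⁻¹ * v) := by group
              _ = k' * v * k⁻¹ := by rw [e3]; group
              _ = v * (k' * k⁻¹) := by rw [e2]; group) h1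
          calc k' * w' = (k' * k⁻¹) * (k * w') := by group
            _ = (k' * k⁻¹ * w') * k := by rw [hkw']; group
            _ = w' * k' := by rw [h2]; group
      rcases h.act k hk w hw with e | e
      · refine hle (key w hw (comm_of_conj_eq e) fun k' hk' hks' hk'u => hkw k' hk' fun v hv => ?_)
        rcases Finset.mem_insert.1 hv with rfl | hv
        · exact hk'u
        · exact hks' v hv
      · have hwu : w * u ∈ closure (s : Set G) ⊔ nn W K := by
          refine key (w * u) (mul_mem hw hu) (comm_of_conj_eq ?_) fun k' hk' hks' hk'u => ?_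
          · calc k * (w * u) * k⁻¹ = (k * w * k⁻¹) * (k * u * k⁻¹) := by group
              _ = q * (w * q) * u := by rw [e, hku']; group
              _ = q * (q * w) * u := by rw [h.comm w hw q h.q_mem]
              _ = (q * q) * (w * u) := by group
              _ = w * u := by rw [h.qq, one_mul]
          · have h1 := hkw k' hk' fun v hv => by
              rcases Finset.mem_insert.1 hv with rfl | hv
              · exact hk'u
              · exact hks' v hv
            calc k' * (w * u) = (k' * w) * u := by group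
              _ = w * (k' * u) := by rw [h1]; group
              _ = w * u * k' := by rw [hk'u]; group
        have e2 : w = w * u * u := by rw [mul_assoc, h.sq u hu, mul_one]
        rw [e2]
        exact mul_mem (hle hwu) hu'

/-- **(D0)** an element of `W` centralised by `C_K(U)` is in `U C_W(K)`. -/
theorem dual (h : DW q W K) {U : Subgroup G} [Finite U] (hU : U ≤ W) {w : G} (hw : w ∈ W)
    (hc : ∀ k ∈ K, (∀ u ∈ U, k * u = u * k) → k * w = w * k) : w ∈ U ⊔ nn W K := by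
  classical
  have : Fintype (U : Set G) := Fintype.ofFinite U
  have h1 := h.dual_aux (U : Set G).toFinset (fun u hu => hU (by simpa using hu)) w hw
    (fun k hk hks => hc k hk fun u hu => hks u (by simpa using hu))
  simpa using h1

/-- **(D0)**, in elements -/
theorem exists_mover (h : DW q W K) {U : Subgroup G} [Finite U] (hU : U ≤ W) {w : G} (hw : w ∈ W)
    (hn : w ∉ U ⊔ nn W K) : ∃ k ∈ K, (∀ u ∈ U, k * u = u * k) ∧ k * w * k⁻¹ = q * w := by
  by_contra hcon
  push Not at hcon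
  refine hn (h.dual hU hw fun k hk hks => ?_)
  rcases h.act k hk w hw with e | e
  · exact comm_of_conj_eq e
  · exact absurd e (hcon k hk hks)

/-- (D0), as an equality of subgroups -/
theorem dual_eq (h : DW q W K) {U : Subgroup G} [Finite U] (hU : U ≤ W) :
    W ⊓ centralizer ((K ⊓ centralizer (U : Set G) : Subgroup G) : Set G) = U ⊔ nn W K := by
  apply le_antisymm
  · rintro w ⟨hw, hc⟩
    refine h.dual hU hw fun k hk hks => ?_
    exact mem_centralizer_iff.1 hc k ⟨hk, mem_centralizer_iff.2 fun u hu => (hks u hu).symm⟩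
  · refine sup_le (fun u hu => ⟨hU hu, mem_centralizer_iff.2 ?_⟩) fun w hw => ?_
    · rintro k ⟨-, hk⟩
      exact (mem_centralizer_iff.1 hk u hu).symm
    · rw [mem_nn] at hw
      exact ⟨hw.1, mem_centralizer_iff.2 fun k hk => hw.2 k hk.1⟩

/-! ### (D2) -/

/-- The hypotheses on `X` in (D2). -/
structure Nrm (q p : G) (W K X : Subgroup G) : Prop where
  p_mem : p ∈ W
  cent : ∀ u ∈ X, u * q = q * u
  W_norm : ∀ u ∈ X, ∀ w ∈ W, u * w * u⁻¹ ∈ W
  K_norm : ∀ u ∈ X, ∀ k ∈ K, u * k * u⁻¹ ∈ K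
  norm : ∀ k ∈ K, k * p = p * k → ∀ u ∈ X, k * u * k⁻¹ ∈ X

/-- **(D2)**, general form: `w ∈ C_W(X ∩ K)` implies `[w, X] ≤ ⟨p⟩ C_W(K)`. -/
theorem comm_mem (h : DW q W K) {p : G} {X : Subgroup G} (hX : Nrm q p W K X) {w : G} (hw : w ∈ W)
    (hwc : ∀ e ∈ X ⊓ K, e * w = w * e) {u : G} (hu : u ∈ X) :
    u * w * u⁻¹ * w⁻¹ ∈ zpowers p ⊔ nn W K := by
  have hp2 : p ^ 2 = 1 := by rw [pow_two]; exact h.sq p hX.p_mem
  have : Finite (zpowers p) := by
    have : IsOfFinOrder p := isOfFinOrder_iff_pow_eq_one.2 ⟨2, by norm_num, hp2⟩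
    exact this.finite_zpowers
  have hw' := hX.W_norm u hu w hw
  refine h.dual ((zpowers_le).2 hX.p_mem) (mul_mem hw' (inv_mem hw)) fun k hk hks => ?_
  have hkp := hks p (mem_zpowers p)
  -- `e = k⁻¹ (u⁻¹ k u)`
  have hku : u⁻¹ * k * u ∈ K := by
    have := hX.K_norm u⁻¹ (inv_mem hu) k hk
    simpa using this
  have hk'p : k⁻¹ * p = p * k⁻¹ := by
    calc k⁻¹ * p = k⁻¹ * (p * k) * k⁻¹ := by group
      _ = k⁻¹ * (k * p) * k⁻¹ := by rw [hkp]
      _ = p * k⁻¹ := by group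
  have he1 : k⁻¹ * u⁻¹ * k ∈ X := by
    have := hX.norm k⁻¹ (inv_mem hk) hk'p u⁻¹ (inv_mem hu)
    simpa using this
  set e := k⁻¹ * (u⁻¹ * k * u) with he
  have heX : e ∈ X := by
    have : e = (k⁻¹ * u⁻¹ * k) * u := by rw [he]; group
    rw [this]
    exact mul_mem he1 hu
  have heK : e ∈ K := mul_mem (inv_mem hk) hku
  have hew := conj_eq_of_comm (hwc e ⟨heX, heK⟩)
  have hk2 : u⁻¹ * k * u = k * e := by rw [he]; group
  have hmain : k * (u * w * u⁻¹) * k⁻¹ = u * (k * w * k⁻¹) * u⁻¹ := by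
    calc k * (u * w * u⁻¹) * k⁻¹ = u * ((u⁻¹ * k * u) * w * (u⁻¹ * k * u)⁻¹) * u⁻¹ := by group
      _ = u * (k * (e * w * e⁻¹) * k⁻¹) * u⁻¹ := by rw [hk2]; group
      _ = u * (k * w * k⁻¹) * u⁻¹ := by rw [hew]
  refine comm_of_conj_eq ?_
  have hsplit : k * (u * w * u⁻¹ * w⁻¹) * k⁻¹ = (k * (u * w * u⁻¹) * k⁻¹) * (k * w * k⁻¹)⁻¹ := by group
  rcases h.act k hk w hw with e' | e'
  · rw [hsplit, hmain, e']
  · have huq : u * q * u⁻¹ = q := conj_eq_of_comm (hX.cent u hu)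
    have e3 : u * (q * w) * u⁻¹ = (u * w * u⁻¹) * q := by
      calc u * (q * w) * u⁻¹ = (u * q * u⁻¹) * (u * w * u⁻¹) := by group
        _ = q * (u * w * u⁻¹) := by rw [huq]
        _ = (u * w * u⁻¹) * q := h.comm q h.q_mem _ hw'
    rw [hsplit, hmain, e', e3]
    have e4 : (q * w)⁻¹ = q⁻¹ * w⁻¹ := by
      rw [h.comm q h.q_mem w hw]; group
    rw [e4]
    group

/-- In (D2): `q ∉ X` and `W ≤ N(X)` imply that `X ∩ K` centralises `W`. -/
theorem cent_of_not_mem (h : DW q W K) {X : Subgroup G} (hWX : ∀ w ∈ W, ∀ u ∈ X, w * u * w⁻¹ ∈ X)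
    (hq : q ∉ X) {w : G} (hw : w ∈ W) : ∀ e ∈ X ⊓ K, e * w = w * e := by
  rintro e ⟨heX, heK⟩
  rcases h.act e heK w hw with h1 | h1
  · exact comm_of_conj_eq h1
  · exfalso
    apply hq
    have h2 : q = e * (w * e⁻¹ * w⁻¹) := by
      calc q = (q * w) * w⁻¹ := by group
        _ = (e * w * e⁻¹) * w⁻¹ := by rw [h1]
        _ = e * (w * e⁻¹ * w⁻¹) := by group
    rw [h2]
    exact mul_mem heX (hWX w hw _ (inv_mem heX))

/-- **(D2)**: `[W, X] ≤ ⟨p⟩ C_W(K)` if `q ∉ X`. -/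
theorem comm_mem' (h : DW q W K) {p : G} {X : Subgroup G} (hX : Nrm q p W K X)
    (hWX : ∀ w ∈ W, ∀ u ∈ X, w * u * w⁻¹ ∈ X) (hq : q ∉ X) {w : G} (hw : w ∈ W) {u : G} (hu : u ∈ X) :
    u * w * u⁻¹ * w⁻¹ ∈ zpowers p ⊔ nn W K :=
  h.comm_mem hX hw (h.cent_of_not_mem hWX hq hw) hu

/-! ### (D4), the count -/

/-- `|F| ≤ 2 |F ∩ N|` if `F ≤ ⟨p⟩ N`, `p * p = 1`, in an abelian group -/
theorem card_le_two (h : DW q W K) [Finite G] {p : G} (hp : p ∈ W) {F : Subgroup G}
    (hF : F ≤ zpowers p ⊔ nn W K) : Nat.card F ≤ 2 * Nat.card (F ⊓ nn W K : Subgroup G) := by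
  have hpp := h.sq p hp
  have hNW : nn W K ≤ W := inf_le_left
  have hmem : ∀ f ∈ F, f ∈ nn W K ∨ ∃ n ∈ nn W K, f = p * n := by
    intro f hf
    obtain ⟨a, ha, n, hn, e⟩ := mem_sup_of_comm h.comm ((zpowers_le).2 hp) hNW (hF hf)
    obtain ⟨k, rfl⟩ := mem_zpowers_iff.1 ha
    have h2 : p ^ (2 : ℤ) = 1 := by
      rw [zpow_two, hpp]
    rcases Int.even_or_odd' k with ⟨m, hm | hm⟩
    · left
      have : p ^ k = 1 := by rw [hm, zpow_mul, h2, one_zpow]
      rw [e, this, one_mul]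
      exact hn
    · right
      have : p ^ k = p := by rw [hm, zpow_add, zpow_mul, h2, one_zpow, one_mul, zpow_one]
      exact ⟨n, hn, by rw [e, this]⟩
  have hidx : (F ⊓ nn W K : Subgroup G).relIndex F ≤ 2 := by
    by_cases hall : ∀ f ∈ F, f ∈ nn W K
    · have : F ⊓ nn W K = F := inf_eq_left.2 hall
      rw [this, relIndex_self]
      norm_num
    · push Not at hall
      obtain ⟨f₀, hf₀, hf₀n⟩ := hall
      refine le_of_eq ?_
      rw [Subgroup.relIndex_eq_two_iff]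
      refine ⟨f₀, hf₀, fun f hf => ?_⟩
      obtain ⟨n₀, hn₀, e₀⟩ := (hmem f₀ hf₀).resolve_left hf₀n
      have hf₀W : f₀ ∈ W := by rw [e₀]; exact mul_mem hp (hNW hn₀)
      have hfW : f ∈ W := by
        rcases hmem f hf with h1 | ⟨n, hn, e⟩
        · exact hNW h1
        · rw [e]; exact mul_mem hp (hNW hn)
      by_cases hfn : f ∈ nn W K
      · right
        refine ⟨⟨hf, hfn⟩, fun hc => hf₀n ?_⟩
        have : f₀ = f⁻¹ * (f * f₀) := by group
        rw [this]
        exact mul_mem (inv_mem hfn) hc.2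
      · left
        obtain ⟨n, hn, e⟩ := (hmem f hf).resolve_left hfn
        refine ⟨⟨mul_mem hf hf₀, ?_⟩, fun hc => hfn hc.2⟩
        have : f * f₀ = n * n₀ := by
          rw [e, e₀]
          calc p * n * (p * n₀) = p * (n * p) * n₀ := by group
            _ = p * (p * n) * n₀ := by rw [h.comm n (hNW hn) p hp]
            _ = (p * p) * (n * n₀) := by group
            _ = n * n₀ := by rw [hpp, one_mul]
        rw [this]
        exact mul_mem hn hn₀
  have h3 := card_mul_relIndex_of_le (H := F ⊓ nn W K) (K := F) inf_le_left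
  calc Nat.card F = Nat.card (F ⊓ nn W K : Subgroup G) * (F ⊓ nn W K : Subgroup G).relIndex F := h3.symm
    _ ≤ Nat.card (F ⊓ nn W K : Subgroup G) * 2 := Nat.mul_le_mul_left _ hidx
    _ = 2 * Nat.card (F ⊓ nn W K : Subgroup G) := by ring

/-- **(D4)**, general form. `b ∈ C_W(X ∩ K)`, `F ≤ [b, A]`, `A ≤ X`, `q ∉ F`, `I ∩ C_W(K) ≤ ⟨q⟩`,
`2 |W : I| ≤ |F|`, `A` centralises `F` and `I`: then `A` centralises `b`. -/
theorem count (h : DW q W K) [Finite G] {p : G} {X : Subgroup G} (hX : Nrm q p W K X) {b : G} (hb : b ∈ W)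
    (hbc : ∀ e ∈ X ⊓ K, e * b = b * e) {A F I : Subgroup G} (hAX : A ≤ X)
    (hF : ∀ f ∈ F, ∃ a ∈ A, f = a * b * a⁻¹ * b⁻¹) (hq : q ∉ F) (hIW : I ≤ W)
    (hI : I ⊓ nn W K ≤ zpowers q) (hcard : 2 * I.relIndex W ≤ Nat.card F)
    (hAF : ∀ a ∈ A, ∀ f ∈ F, a * f = f * a) (hAI : ∀ a ∈ A, ∀ f ∈ I, a * f = f * a) {x : G} (hx : x ∈ A) :
    x * b = b * x := by
  have hFW : F ≤ W := by
    intro f hf
    obtain ⟨a, ha, rfl⟩ := hF f hf
    exact mul_mem (hX.W_norm a (hAX ha) b hb) (inv_mem hb)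
  have hFN : F ≤ zpowers p ⊔ nn W K := by
    intro f hf
    obtain ⟨a, ha, rfl⟩ := hF f hf
    exact h.comm_mem hX hb hbc (hAX ha)
  have h1 := h.card_le_two hX.p_mem hFN
  set D := F ⊓ nn W K with hD
  have h2 : I.relIndex W ≤ Nat.card D := by omega
  -- `D ∩ I = 1`
  have h3 : D ⊓ I = ⊥ := by
    rw [eq_bot_iff]
    intro y hy
    rw [hD, mem_inf, mem_inf] at hy
    obtain ⟨⟨hyF, hyN⟩, hyI⟩ := hy
    have h4 := hI (mem_inf.2 ⟨hyI, hyN⟩)
    obtain ⟨k, rfl⟩ := mem_zpowers_iff.1 h4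
    have hq2 : q ^ (2 : ℤ) = 1 := by
      rw [zpow_two, h.qq]
    rcases Int.even_or_odd' k with ⟨m, hm | hm⟩
    · rw [mem_bot, hm, zpow_mul, hq2, one_zpow]
    · exfalso
      apply hq
      have : q ^ k = q := by rw [hm, zpow_add, zpow_mul, hq2, one_zpow, one_mul, zpow_one]
      rwa [this] at hyF
  have hDW' : D ≤ W := inf_le_left.trans hFW
  have hle : D ⊔ I ≤ W := sup_le hDW' hIW
  -- `|D I| = |D| |I|`
  have h5 : Nat.card W ≤ Nat.card (D ⊔ I : Subgroup G) := by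
    have hcI := card_mul_relIndex_of_le hIW
    have h6 : Nat.card D * Nat.card I ≤ Nat.card (D ⊔ I : Subgroup G) := by
      have : Function.Injective (fun y : D × I => (⟨(y.1 : G) * y.2,
          mul_mem (mem_sup_left y.1.2) (mem_sup_right y.2.2)⟩ : (D ⊔ I : Subgroup G))) := by
        rintro ⟨⟨d, hd⟩, ⟨i, hi⟩⟩ ⟨⟨d', hd'⟩, ⟨i', hi'⟩⟩ e
        have e1 : d * i = d' * i' := congrArg Subtype.val e
        have e2 : d'⁻¹ * d = i' * i⁻¹ := by
          calc d'⁻¹ * d = d'⁻¹ * (d * i) * i⁻¹ := by group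
            _ = d'⁻¹ * (d' * i') * i⁻¹ := by rw [e1]
            _ = i' * i⁻¹ := by group
        have e3 : d'⁻¹ * d ∈ D ⊓ I :=
          mem_inf.2 ⟨mul_mem (inv_mem hd') hd, by rw [e2]; exact mul_mem hi' (inv_mem hi)⟩
        rw [h3, mem_bot] at e3
        have e4 : d = d' := by
          calc d = d' * (d'⁻¹ * d) := by group
            _ = d' := by rw [e3, mul_one]
        have e5 : i = i' := by
          rw [e4] at e1
          exact mul_left_cancel e1
        subst e4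
        subst e5
        rfl
      have := Nat.card_le_card_of_injective _ this
      rwa [Nat.card_prod] at this
    calc Nat.card W = Nat.card I * I.relIndex W := hcI.symm
      _ ≤ Nat.card I * Nat.card D := Nat.mul_le_mul_left _ h2
      _ = Nat.card D * Nat.card I := mul_comm _ _
      _ ≤ _ := h6
  have h7 : D ⊔ I = W := Subgroup.eq_of_le_of_card_ge hle h5
  have hb' : b ∈ D ⊔ I := by rw [h7]; exact hb
  obtain ⟨d, hd, i, hi, rfl⟩ := mem_sup_of_comm h.comm hDW' hIW hb'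
  have e1 := hAF x hx d hd.1
  have e2 := hAI x hx i hi
  calc x * (d * i) = (x * d) * i := by group
    _ = d * (x * i) := by rw [e1]; group
    _ = d * i * x := by rw [e2]; group

/-- **(D4)**: the case `q ∉ X`, `W ≤ N(X)`. -/
theorem count' (h : DW q W K) [Finite G] {p : G} {X : Subgroup G} (hX : Nrm q p W K X)
    (hWX : ∀ w ∈ W, ∀ u ∈ X, w * u * w⁻¹ ∈ X) (hqX : q ∉ X) {b : G} (hb : b ∈ W) {A F I : Subgroup G}
    (hAX : A ≤ X) (hF : ∀ f ∈ F, ∃ a ∈ A, f = a * b * a⁻¹ * b⁻¹) (hIW : I ≤ W)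
    (hI : I ⊓ nn W K ≤ zpowers q) (hcard : 2 * I.relIndex W ≤ Nat.card F)
    (hAF : ∀ a ∈ A, ∀ f ∈ F, a * f = f * a) (hAI : ∀ a ∈ A, ∀ f ∈ I, a * f = f * a) {x : G} (hx : x ∈ A) :
    x * b = b * x := by
  refine h.count hX hb (h.cent_of_not_mem hWX hqX hb) hAX hF (fun hqF => hqX ?_) hIW hI hcard hAF hAI hx
  obtain ⟨a, ha, e⟩ := hF q hqF
  rw [e]
  have : a * b * a⁻¹ * b⁻¹ = a * (b * a⁻¹ * b⁻¹) := by group
  rw [this]
  exact mul_mem (hAX ha) (hWX b hb _ (inv_mem (hAX ha)))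

/-! ### (D5) -/

/-- **(D5)**: `C ≤ W`, `b ∈ W`, `E ≤ K`. If no element of `C b` is centralised by `E`, some `e ∈ E` centralises `C`
and moves `b` to `q b`. -/
theorem exists_e (h : DW q W K) {C E : Subgroup G} [Finite C] (hC : C ≤ W) (hE : E ≤ K) {b : G} (hb : b ∈ W)
    (hn : ∀ c ∈ C, ∃ e ∈ E, e * (c * b) ≠ c * b * e) :
    ∃ e ∈ E, (∀ c ∈ C, e * c = c * e) ∧ e * b * e⁻¹ = q * b := by
  refine (h.mono hE).exists_mover hC hb fun hmem => ?_
  obtain ⟨c, hc, n, hn', rfl⟩ := mem_sup_of_comm h.comm hC (inf_le_left : nn W E ≤ W) hmem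
  obtain ⟨e, he, hne⟩ := hn c⁻¹ (inv_mem hc)
  apply hne
  have : c⁻¹ * (c * n) = n := by group
  rw [this]
  exact (mem_nn.1 hn').2 e he

/-- (D5): `[w, e] = q` if and only if `[w, x] ∉` the kernel of `ψ`: the action of `e` on `W` depends only on
`[w, x]`, if `e` centralises `C_W(x)`. -/
theorem act_of_comm (h : DW q W K) {x e : G} (he : e ∈ K) (hxW : ∀ w ∈ W, x * w * x⁻¹ ∈ W)
    (hC : ∀ w ∈ W, x * w = w * x → e * w = w * e) {w w' : G} (hw : w ∈ W) (hw' : w' ∈ W)
    (hww : x * w * x⁻¹ * w⁻¹ = x * w' * x⁻¹ * w'⁻¹) : e * w * e⁻¹ * w⁻¹ = e * w' * e⁻¹ * w'⁻¹ := by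
  have h1 : x * (w'⁻¹ * w) = w'⁻¹ * w * x := by
    refine comm_of_conj_eq ?_
    have e1 := h.comm _ (hxW w hw) _ (inv_mem hw)
    have e2 := h.comm _ (hxW w' hw') _ (inv_mem hw')
    have e3 : w⁻¹ * (x * w * x⁻¹) = w'⁻¹ * (x * w' * x⁻¹) := by rw [← e1, ← e2, hww]
    calc x * (w'⁻¹ * w) * x⁻¹ = (x * w' * x⁻¹)⁻¹ * (x * w * x⁻¹) := by group
      _ = (x * w' * x⁻¹)⁻¹ * (w * (w⁻¹ * (x * w * x⁻¹))) := by group
      _ = (x * w' * x⁻¹)⁻¹ * w * w'⁻¹ * (x * w' * x⁻¹) := by rw [e3]; group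
      _ = (x * w' * x⁻¹)⁻¹ * (w'⁻¹ * w) * (x * w' * x⁻¹) := by
        have := h.comm w hw w'⁻¹ (inv_mem hw')
        rw [mul_assoc (x * w' * x⁻¹)⁻¹ w w'⁻¹, this]
      _ = (x * w' * x⁻¹)⁻¹ * ((w'⁻¹ * w) * (x * w' * x⁻¹)) := by group
      _ = (x * w' * x⁻¹)⁻¹ * ((x * w' * x⁻¹) * (w'⁻¹ * w)) := by
        rw [h.comm (w'⁻¹ * w) (mul_mem (inv_mem hw') hw) _ (hxW w' hw')]
      _ = w'⁻¹ * w := by group
  have h2 := hC _ (mul_mem (inv_mem hw') hw) h1
  have e4 : w = w' * (w'⁻¹ * w) := by group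
  have e5 : e * (w'⁻¹ * w) * e⁻¹ = w'⁻¹ * w := conj_eq_of_comm h2
  have hew' : e * w' * e⁻¹ ∈ W := by
    rcases h.act e he w' hw' with e' | e'
    · rw [e']; exact hw'
    · rw [e']; exact mul_mem h.q_mem hw'
  calc e * w * e⁻¹ * w⁻¹ = (e * w' * e⁻¹) * (e * (w'⁻¹ * w) * e⁻¹) * w⁻¹ := by group
    _ = (e * w' * e⁻¹) * (w'⁻¹ * w) * w⁻¹ := by rw [e5]
    _ = e * w' * e⁻¹ * w'⁻¹ := by group

end DW

/-! ### (D7) -/

/-- **(D7)**: `A` centralises `B`; `L = ⟨A, A^g⟩` contains `g`: then `B ∩ B^g = C_B(L)`. -/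
theorem inf_conj_eq {A B L : Subgroup G} {g : G} (hAB : A ≤ centralizer (B : Set G))
    (hL : L ≤ A ⊔ A.map (MulAut.conj g).toMonoidHom) (hg : g ∈ L) :
    B ⊓ B.map (MulAut.conj g).toMonoidHom = B ⊓ centralizer (L : Set G) := by
  apply le_antisymm
  · rintro u ⟨hu, hu'⟩
    refine mem_inf.2 ⟨hu, ?_⟩
    have h1 : L ≤ centralizer ({u} : Set G) := by
      refine hL.trans (sup_le (fun a ha => ?_) ?_)
      · rw [mem_centralizer_singleton_iff]
        exact (mem_centralizer_iff.1 (hAB ha) u hu).symm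
      · rintro _ ⟨a, ha, rfl⟩
        obtain ⟨v, hv, rfl⟩ := hu'
        rw [mem_centralizer_singleton_iff]
        have h2 := mem_centralizer_iff.1 (hAB ha) v hv
        change g * a * g⁻¹ * (g * v * g⁻¹) = g * v * g⁻¹ * (g * a * g⁻¹)
        calc g * a * g⁻¹ * (g * v * g⁻¹) = g * (a * v) * g⁻¹ := by group
          _ = g * (v * a) * g⁻¹ := by rw [h2]
          _ = g * v * g⁻¹ * (g * a * g⁻¹) := by group
    rw [mem_centralizer_iff]
    intro l hl
    exact mem_centralizer_singleton_iff.1 (h1 hl)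
  · rintro u ⟨hu, hc⟩
    refine ⟨hu, ⟨u, hu, ?_⟩⟩
    have := mem_centralizer_iff.1 hc g hg
    change g * u * g⁻¹ = u
    rw [this]; group

/-- (D7), second part: `u ∈ B^g` centralised by `w`, `L ≤ ⟨w, A^g⟩`: then `u ∈ C(L)`. -/
theorem mem_centralizer_of_conj {A B L : Subgroup G} {g w u : G} (hAB : A ≤ centralizer (B : Set G))
    (hL : L ≤ zpowers w ⊔ A.map (MulAut.conj g).toMonoidHom)
    (hu : u ∈ B.map (MulAut.conj g).toMonoidHom) (hw : w * u = u * w) : u ∈ centralizer (L : Set G) := by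
  have h1 : L ≤ centralizer ({u} : Set G) := by
    refine hL.trans (sup_le ?_ ?_)
    · rw [zpowers_le, mem_centralizer_singleton_iff]
      exact hw
    · rintro _ ⟨a, ha, rfl⟩
      obtain ⟨v, hv, rfl⟩ := hu
      rw [mem_centralizer_singleton_iff]
      have h2 := mem_centralizer_iff.1 (hAB ha) v hv
      change g * a * g⁻¹ * (g * v * g⁻¹) = g * v * g⁻¹ * (g * a * g⁻¹)
      calc g * a * g⁻¹ * (g * v * g⁻¹) = g * (a * v) * g⁻¹ := by group
        _ = g * (v * a) * g⁻¹ := by rw [h2]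
        _ = g * v * g⁻¹ * (g * a * g⁻¹) := by group
  rw [mem_centralizer_iff]
  intro l hl
  exact mem_centralizer_singleton_iff.1 (h1 hl)

end Cfsg.Agent.Omega.NO3S.Dual

end

section


/-!
# NO-3S, `q = 2`: duality tools (helper804 #14168), the flags

`Flag T V z` : helper391's `TwoOne.One` without the hypothesis `[W_z, W_y] ≠ 1`: `Ln T V z`, `W_z` abelian and (F1)
`K_z` moves the points of `V`. All facts of `TwoOne/Base.lean` hold for `Flag` (same names).

* `Flag.dw` : `DW p (ws V p) (kq V p)` for the points of `V`; `Flag.dw_conj` : for all points;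
* `Flag.nn_inf` (D1) : `N_p ∩ W_q = ⟨p⟩` for `p ≠ q` in `V#`, `N_p = C_{W_p}(K_p)`; `Flag.card_nn` : `|N_p| ≤ 2 |W_p : I|`;
* `Flag.exists_transv` (D6) : `K_p ∩ C(V)` induces on `I = ii V` all transvections with centre `p` and axis over `V`;
* `Flag.comm_mem` (D3) : `p ∈ W_q`, `[W_p ∩ K_q, W_q] = 1` implies `[W_q, W_p] ≤ ⟨p⟩ N_q`;
* `Flag.count`, `Flag.count'`, `Flag.exists_e` (D4), (D5) : claim A (a).
-/

set_option autoImplicit false
set_option linter.unusedSectionVars false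

namespace Cfsg.Agent.Omega.NO3S.Dual

open Subgroup Cfsg Cfsg.Agent.ZN Cfsg.Agent.MinSimple.Geo Cfsg.Agent.Omega.CaseL
open Cfsg.Agent.Omega.NO3S.TwoOne (kq_le_centralizer kq_comm cj_kq conj_mem_kq centralizer_le_normalizer_kq kq_cj
  ws_sq ii ii_le normalizer_le_normalizer_ii One)
open Cfsg.Agent.ZN.Block (conj_mem_of_normalizer conj_mem_of_normalizer' le_normalizer_of_forall
  mem_normalizer_of)

universe u

variable {G : Type u} [Group G]

/-- a flag `(z, V)`, `W_z` abelian, with (F1) -/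
structure Flag (T V : Subgroup G) (z : G) : Prop where
  ln : Ln T V z
  ab : ∀ a ∈ ws V z, ∀ b ∈ ws V z, a * b = b * a
  f1 : ∃ k ∈ kq V z, k ∉ centralizer (V : Set G)

theorem Flag.of_one {T V : Subgroup G} {z : G} (h : One T V z) : Flag T V z := ⟨h.ln, h.ab, h.f1⟩

namespace Flag

variable {T V : Subgroup G} {z : G}

theorem conj (h : Flag T V z) (g : G) : Flag (cj g T) (cj g V) (g * z * g⁻¹) where
  ln := h.ln.conj g
  ab := by
    rw [ws_cj, ← cj_ws]
    intro a ha b hb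
    have := h.ab _ (mem_of_cj ha) _ (mem_of_cj hb)
    calc a * b = g * ((g⁻¹ * a * g) * (g⁻¹ * b * g)) * g⁻¹ := by group
      _ = g * ((g⁻¹ * b * g) * (g⁻¹ * a * g)) * g⁻¹ := by rw [this]
      _ = b * a := by group
  f1 := by
    obtain ⟨k, hk, hk1⟩ := h.f1
    refine ⟨g * k * g⁻¹, ?_, ?_⟩
    · rw [kq_cj]; exact conj_mem_kq g hk
    · intro e
      apply hk1
      rw [mem_centralizer_iff] at e ⊢
      intro v hv
      have := e _ (conj_mem_cj hv)
      calc v * k = g⁻¹ * ((g * v * g⁻¹) * (g * k * g⁻¹)) * g := by group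
        _ = g⁻¹ * ((g * k * g⁻¹) * (g * v * g⁻¹)) * g := by rw [this]
        _ = k * v := by group

theorem point (h : Flag T V z) {p : G} (hp : p ∈ V) (hp1 : p ≠ 1) :
    ∃ g ∈ normalizer (V : Set G), g * z * g⁻¹ = p ∧ Flag (cj g T) V p := by
  obtain ⟨g, hg, rfl⟩ := h.ln.trans p hp hp1
  refine ⟨g, hg, rfl, ?_⟩
  have := h.conj g
  rwa [cj_eq_of_mem_normalizer hg] at this

theorem sqz (h : Flag T V z) : ∀ a ∈ ws V z, a * a = 1 := ws_sq h.ln h.ab

/-! ### all points of `V` -/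

section points

variable {p q : G}

theorem sq (h : Flag T V z) (hp : p ∈ V) (hp1 : p ≠ 1) : ∀ a ∈ ws V p, a * a = 1 := by
  obtain ⟨g, -, -, hg⟩ := h.point hp hp1
  exact hg.sqz

theorem comm (h : Flag T V z) (hp : p ∈ V) (hp1 : p ≠ 1) : ∀ a ∈ ws V p, ∀ b ∈ ws V p, a * b = b * a := by
  obtain ⟨g, -, -, hg⟩ := h.point hp hp1
  exact hg.ab

theorem V_le (h : Flag T V z) (hp : p ∈ V) (hp1 : p ≠ 1) : V ≤ ws V p := by
  obtain ⟨g, -, -, hg⟩ := h.point hp hp1
  exact hg.ln.V_le_ws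

theorem ws_le_centralizer_V (h : Flag T V z) (hp : p ∈ V) (hp1 : p ≠ 1) :
    ws V p ≤ centralizer (V : Set G) := by
  intro a ha
  rw [mem_centralizer_iff]
  intro v hv
  exact h.comm hp hp1 v (h.V_le hp hp1 hv) a ha

theorem V_comm (_ : Flag T V z) {v c : G} (hv : v ∈ V) (hc : c ∈ centralizer (V : Set G)) :
    v * c = c * v := mem_centralizer_iff.mp hc v hv

theorem V_le_centralizer (h : Flag T V z) : V ≤ centralizer (V : Set G) := by
  intro v hv
  rw [mem_centralizer_iff]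
  intro w hw
  exact h.ln.comm hw hv

theorem cent_le_centralizer (_ : Flag T V z) (hp : p ∈ V) :
    centralizer (V : Set G) ≤ centralizer ({p} : Set G) := by
  intro c hc
  rw [mem_centralizer_singleton_iff]
  exact (mem_centralizer_iff.mp hc p hp).symm

/-- `C_G(V)` normalizes `W_p` -/
theorem cent_norm (h : Flag T V z) (hp : p ∈ V) :
    centralizer (V : Set G) ≤ normalizer ((ws V p : Subgroup G) : Set G) :=
  (h.cent_le_centralizer hp).trans (centralizer_le_normalizer_ws V p)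

theorem mul_ne_one (h : Flag T V z) (hq : q ∈ V) (hpq : p ≠ q) : p * q ≠ 1 := fun e =>
  hpq (by rw [mul_eq_one_iff_eq_inv.mp e, h.ln.inv_eq hq])

theorem mem_centralizer_of (h : Flag T V z) (hp : p ∈ V) (hp1 : p ≠ 1) (hq : q ∈ V) (hq1 : q ≠ 1)
    (hqp : q ≠ p) {g : G} (h1 : g * p = p * g) (h2 : g * q = q * g) :
    g ∈ centralizer (V : Set G) := by
  obtain ⟨g, -, -, hg⟩ := h.point hp hp1
  exact hg.ln.mem_centralizer_V hq hq1 hqp h1 h2

theorem exists_q (h : Flag T V z) (hp : p ∈ V) (hp1 : p ≠ 1) : ∃ q ∈ V, q ≠ 1 ∧ q ≠ p := by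
  obtain ⟨g, -, -, hg⟩ := h.point hp hp1
  exact hg.ln.exists_y

/-- elements of `K_p` act on `W_p` by multiplication with `1` or `p` -/
theorem kq_cases (h : Flag T V z) (hp : p ∈ V) {k w : G} (hk : k ∈ kq V p) (hw : w ∈ ws V p) :
    k * w * k⁻¹ = w ∨ k * w * k⁻¹ = p * w := by
  rcases (mem_zpowers_iff_of_mul_self (h.ln.sq p hp)).mp (kq_comm hk hw) with e | e
  · left
    calc k * w * k⁻¹ = (k * w * k⁻¹ * w⁻¹) * w := by group
      _ = w := by rw [e, one_mul]
  · right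
    calc k * w * k⁻¹ = (k * w * k⁻¹ * w⁻¹) * w := by group
      _ = p * w := by rw [e]

theorem kq_p (_ : Flag T V z) {k : G} (hk : k ∈ kq V p) : k * p = p * k :=
  mem_centralizer_singleton_iff.mp (kq_le_centralizer V p hk)

/-- `K_p` normalizes `V` -/
theorem kq_le_normalizer (h : Flag T V z) (hp : p ∈ V) (hp1 : p ≠ 1) :
    kq V p ≤ normalizer (V : Set G) := by
  refine le_normalizer_of_forall fun k hk v hv => ?_
  rcases h.kq_cases hp hk (h.V_le hp hp1 hv) with e | e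
  · rw [e]; exact hv
  · rw [e]; exact mul_mem hp hv

/-- (F1) at every point -/
theorem exists_mover (h : Flag T V z) (hp : p ∈ V) (hp1 : p ≠ 1) :
    ∃ k ∈ kq V p, k ∉ centralizer (V : Set G) := by
  obtain ⟨g, -, -, hg⟩ := h.point hp hp1
  exact hg.f1

/-- a mover of `K_p` moves the points `q ≠ p` to `p q` -/
theorem move (h : Flag T V z) (hp : p ∈ V) (hp1 : p ≠ 1) (hq : q ∈ V) (hq1 : q ≠ 1) (hqp : q ≠ p)
    {k : G} (hk : k ∈ kq V p) (hk1 : k ∉ centralizer (V : Set G)) : k * q * k⁻¹ = p * q := by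
  rcases h.kq_cases hp hk (h.V_le hp hp1 hq) with e | e
  · exfalso
    exact hk1 (h.mem_centralizer_of hp hp1 hq hq1 hqp (h.kq_p hk) (comm_of_conj_eq e))
  · exact e

/-- the movers of `K_p` form one coset of `K_p ∩ C_G(V)` -/
theorem mover_coset (h : Flag T V z) (hp : p ∈ V) (hp1 : p ≠ 1) {k k' : G} (hk : k ∈ kq V p)
    (hk1 : k ∉ centralizer (V : Set G)) (hk' : k' ∈ kq V p) (hk1' : k' ∉ centralizer (V : Set G)) :
    k' * k⁻¹ ∈ centralizer (V : Set G) := by
  obtain ⟨q, hq, hq1, hqp⟩ := h.exists_q hp hp1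
  refine h.mem_centralizer_of hp hp1 (mul_mem hp hq) (h.mul_ne_one hq (Ne.symm hqp)) ?_ ?_ ?_
  · intro e'
    exact hq1 (by simpa using e')
  · exact mul_comm_of (h.kq_p hk') (inv_comm_of (h.kq_p hk))
  · refine comm_of_conj_eq ?_
    have e1 := h.move hp hp1 hq hq1 hqp hk hk1
    have e2 := h.move hp hp1 hq hq1 hqp hk' hk1'
    calc k' * k⁻¹ * (p * q) * (k' * k⁻¹)⁻¹ = k' * (k⁻¹ * (p * q) * k) * k'⁻¹ := by group
      _ = k' * (k⁻¹ * (k * q * k⁻¹) * k) * k'⁻¹ := by rw [e1]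
      _ = k' * q * k'⁻¹ := by group
      _ = p * q := e2

end points

end Flag

namespace Flag

variable {T V : Subgroup G} {z : G}

theorem V_le_ii (h : Flag T V z) : V ≤ ii V := fun _ hv _ hp hp1 => h.V_le hp hp1 hv

theorem ii_le_centralizer (h : Flag T V z) : ii V ≤ centralizer (V : Set G) :=
  (ii_le h.ln.z_mem h.ln.z_ne).trans (h.ws_le_centralizer_V h.ln.z_mem h.ln.z_ne)

/-- `ii V` is the intersection of any two of the `W_p`. -/
theorem mem_ii (h : Flag T V z) {p q u : G} (hp : p ∈ V) (hp1 : p ≠ 1) (hq : q ∈ V) (hq1 : q ≠ 1)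
    (hqp : q ≠ p) (h1 : u ∈ ws V p) (h2 : u ∈ ws V q) : u ∈ ii V := by
  intro r hr hr1
  obtain ⟨g, -, -, hg⟩ := h.point hp hp1
  rcases hg.ln.four hp hq hp1 hq1 (Ne.symm hqp) hr with e | e | e | e
  · exact absurd e hr1
  · rw [e]; exact h1
  · rw [e]; exact h2
  · obtain ⟨k, hk, hk1⟩ := h.exists_mover hp hp1
    have e1 := h.move hp hp1 hq hq1 hqp hk hk1
    have h3 := conj_mem_ws k h2
    rw [e1, ← e] at h3
    rcases h.kq_cases hp hk h1 with e2 | e2
    · rwa [e2] at h3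
    · rw [e2] at h3
      have h4 := mul_mem (h.V_le hr hr1 hp) h3
      rwa [← mul_assoc, h.ln.sq p hp, one_mul] at h4

/-- the fixed points of all `K_p` on `ii V` are trivial -/
theorem fix_triv [Finite G] (h : Flag T V z) {u : G} (hu : u ∈ ii V)
    (hf : ∀ p ∈ V, p ≠ 1 → ∀ k ∈ kq V p, k * u = u * k) : u = 1 := by
  let D : Subgroup G :=
    { carrier := {d | d ∈ ii V ∧ ∀ p ∈ V, p ≠ 1 → ∀ k ∈ kq V p, k * d = d * k}
      mul_mem' := by
        rintro a b ⟨ha, ha1⟩ ⟨hb, hb1⟩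
        exact ⟨mul_mem ha hb, fun p hp hp1 k hk => comm_mul_of (ha1 p hp hp1 k hk) (hb1 p hp hp1 k hk)⟩
      one_mem' := ⟨one_mem _, fun p hp hp1 k hk => by simp⟩
      inv_mem' := by
        rintro a ⟨ha, ha1⟩
        exact ⟨inv_mem ha, fun p hp hp1 k hk => comm_inv_of (ha1 p hp hp1 k hk)⟩ }
  have hDn : D ≤ normalizer (V : Set G) := fun d hd =>
    centralizer_le_normalizer _ (h.ii_le_centralizer hd.1)
  have hN : normalizer (V : Set G) ≤ normalizer (D : Set G) := by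
    refine le_normalizer_of_forall fun g hg d hd => ?_
    refine ⟨conj_mem_of_normalizer (normalizer_le_normalizer_ii V) hg hd.1, fun p hp hp1 k hk => ?_⟩
    have hp' : g⁻¹ * p * g ∈ V := (mem_normalizer_iff''.mp hg p).mp hp
    have hp1' : g⁻¹ * p * g ≠ 1 := fun e => hp1 (by
      have : p = g * (g⁻¹ * p * g) * g⁻¹ := by group
      rw [this, e]; group)
    have hk' : g⁻¹ * k * g ∈ kq V (g⁻¹ * p * g) := by
      have := conj_mem_kq g⁻¹ hk
      rwa [inv_inv] at this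
    have := hd.2 _ hp' hp1' _ hk'
    calc k * (g * d * g⁻¹) = g * ((g⁻¹ * k * g) * d) * g⁻¹ := by group
      _ = g * (d * (g⁻¹ * k * g)) * g⁻¹ := by rw [this]
      _ = g * d * g⁻¹ * k := by group
  have hD : D = ⊥ := by
    by_contra hne
    have hz := h.ln.z_mem_of_normal hDn hN hne
    obtain ⟨y, hy, hy1, hyz⟩ := h.ln.exists_y
    obtain ⟨k, hk, hk1⟩ := h.exists_mover hy hy1
    have e1 := h.move hy hy1 h.ln.z_mem h.ln.z_ne (Ne.symm hyz) hk hk1
    have e2 := hz.2 y hy hy1 k hk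
    rw [conj_eq_of_comm e2] at e1
    exact hy1 (by simpa using e1.symm)
  have : u ∈ D := ⟨hu, hf⟩
  rw [hD] at this
  exact mem_bot.mp this

/-- (FU), for some point -/
theorem fu_aux [Finite G] (h : Flag T V z) {u : G} (hu : u ∈ ii V) (huV : u ∉ V) :
    ∃ p ∈ V, p ≠ 1 ∧ ∃ k ∈ kq V p, k ∈ centralizer (V : Set G) ∧ k * u * k⁻¹ = p * u := by
  by_contra hcon
  push Not at hcon
  have hcent : ∀ p ∈ V, p ≠ 1 → ∀ k ∈ kq V p, k ∈ centralizer (V : Set G) → k * u = u * k := by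
    intro p hp hp1 k hk hkV
    rcases h.kq_cases hp hk (hu p hp hp1) with e | e
    · exact comm_of_conj_eq e
    · exact absurd e (hcon p hp hp1 k hk hkV)
  have hz := h.ln.z_mem
  have hz1 := h.ln.z_ne
  have hzz := h.ln.zz
  obtain ⟨y, hy, hy1, hyz⟩ := h.ln.exists_y
  have hyy := h.ln.sq y hy
  obtain ⟨s, hs, hs1⟩ := h.exists_mover hz hz1
  obtain ⟨t, ht, ht1⟩ := h.exists_mover hy hy1
  have hzy := h.ln.comm hz hy
  have hsy := h.move hz hz1 hy hy1 hyz hs hs1
  have htz := h.move hy hy1 hz hz1 (Ne.symm hyz) ht ht1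
  have hsz : s * z * s⁻¹ = z := conj_eq_of_comm (h.kq_p hs)
  have hty : t * y * t⁻¹ = y := conj_eq_of_comm (h.kq_p ht)
  have huc := h.ii_le_centralizer hu
  have huz := h.V_comm hz huc
  have huy := h.V_comm hy huc
  -- a point of `u V` fixed by `s` and `t`
  obtain ⟨v, hv, hsv, htv⟩ : ∃ v ∈ V, s * (v * u) * s⁻¹ = v * u ∧ t * (v * u) * t⁻¹ = v * u := by
    have es : ∀ v, s * (v * u) * s⁻¹ = (s * v * s⁻¹) * (s * u * s⁻¹) := fun v => by group
    have et : ∀ v, t * (v * u) * t⁻¹ = (t * v * t⁻¹) * (t * u * t⁻¹) := fun v => by group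
    rcases h.kq_cases hz hs (hu z hz hz1) with e1 | e1 <;>
      rcases h.kq_cases hy ht (hu y hy hy1) with e2 | e2
    · exact ⟨1, one_mem _, by simpa using e1, by simpa using e2⟩
    · -- `v = z`
      refine ⟨z, hz, ?_, ?_⟩
      · rw [es, hsz, e1]
      · rw [et, htz, e2]
        calc y * z * (y * u) = y * (z * y) * u := by group
          _ = (y * y) * (z * u) := by rw [hzy]; group
          _ = z * u := by rw [hyy, one_mul]
    · refine ⟨y, hy, ?_, ?_⟩
      · rw [es, hsy, e1]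
        calc z * y * (z * u) = z * (y * z) * u := by group
          _ = (z * z) * (y * u) := by rw [← hzy]; group
          _ = y * u := by rw [hzz, one_mul]
      · rw [et, hty, e2]
    · refine ⟨y * z, mul_mem hy hz, ?_, ?_⟩
      · have : s * (y * z) * s⁻¹ = (s * y * s⁻¹) * (s * z * s⁻¹) := by group
        rw [es, this, hsy, hsz, e1]
        calc z * y * z * (z * u) = z * y * (z * z) * u := by group
          _ = z * y * u := by rw [hzz, mul_one]
          _ = y * z * u := by rw [hzy]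
      · have : t * (y * z) * t⁻¹ = (t * y * t⁻¹) * (t * z * t⁻¹) := by group
        rw [et, this, hty, htz, e2]
        calc y * (y * z) * (y * u) = (y * y) * (z * y) * u := by group
          _ = (z * y) * u := by rw [hyy, one_mul]
          _ = y * z * u := by rw [hzy]
  set a := v * u with ha
  have hai : a ∈ ii V := mul_mem (h.V_le_ii hv) hu
  have hacent : ∀ p ∈ V, p ≠ 1 → ∀ k ∈ kq V p, k ∈ centralizer (V : Set G) → k * a = a * k :=
    fun p hp hp1 k hk hkV => comm_mul_of (h.V_comm hv hkV).symm (hcent p hp hp1 k hk hkV)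
  -- one mover which fixes `a` is enough
  have hone : ∀ p ∈ V, p ≠ 1 → ∀ m ∈ kq V p, m ∉ centralizer (V : Set G) → m * a = a * m →
      ∀ k ∈ kq V p, k * a = a * k := by
    intro p hp hp1 m hm hm1 hma k hk
    by_cases hk1 : k ∈ centralizer (V : Set G)
    · exact hacent p hp hp1 k hk hk1
    · have h1 := hacent p hp hp1 _ (mul_mem hk (inv_mem hm)) (h.mover_coset hp hp1 hm hm1 hk hk1)
      have h2 := mul_comm_of h1 hma
      simpa using h2
  have ha1 : a = 1 := by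
    refine h.fix_triv hai fun p hp hp1 => ?_
    rcases h.ln.four hz hy hz1 hy1 (Ne.symm hyz) hp with e | e | e | e
    · exact absurd e hp1
    · subst e; exact hone _ hz hz1 s hs hs1 (comm_of_conj_eq hsv)
    · subst e; exact hone _ hy hy1 t ht ht1 (comm_of_conj_eq htv)
    · have hm := conj_mem_kq s ht
      rw [hsy, ← e] at hm
      refine hone p hp hp1 (s * t * s⁻¹) hm ?_ ?_
      · intro hc
        apply ht1
        have := conj_mem_of_normalizer' (normalizer_le_normalizer_centralizer V)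
          (h.kq_le_normalizer hz hz1 hs) hc
        have e' : s⁻¹ * (s * t * s⁻¹) * s = t := by group
        rwa [e'] at this
      · have h1 := comm_of_conj_eq hsv
        have h2 := comm_of_conj_eq htv
        exact mul_comm_of (mul_comm_of h1 h2) (inv_comm_of h1)
  apply huV
  have : u = v⁻¹ * a := by rw [ha]; group
  rw [this, ha1, mul_one]
  exact inv_mem hv

/-- (FU): for `u ∈ I - V` and every point `p` some element of `K_p ∩ C_G(V)` moves `u` to `p u`. -/
theorem fu [Finite G] (h : Flag T V z) {u : G} (hu : u ∈ ii V) (huV : u ∉ V) {p : G} (hp : p ∈ V)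
    (hp1 : p ≠ 1) : ∃ k ∈ kq V p, k ∈ centralizer (V : Set G) ∧ k * u * k⁻¹ = p * u := by
  obtain ⟨q, hq, hq1, k, hk, hkV, hku⟩ := h.fu_aux hu huV
  by_cases hpq : p = q
  · subst hpq; exact ⟨k, hk, hkV, hku⟩
  have hw : p * q ∈ V := mul_mem hp hq
  have hw1 : p * q ≠ 1 := h.mul_ne_one hq hpq
  have hqw : q ≠ p * q := fun e => hp1 (by simpa using e.symm)
  obtain ⟨t, ht, ht1⟩ := h.exists_mover hw hw1
  have e1 := h.move hw hw1 hq hq1 hqw ht ht1
  have e2 : p * q * q = p := by rw [mul_assoc, h.ln.sq q hq, mul_one]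
  rw [e2] at e1
  have htn := h.kq_le_normalizer hw hw1 ht
  refine ⟨t * k * t⁻¹, ?_, conj_mem_of_normalizer (normalizer_le_normalizer_centralizer V) htn hkV, ?_⟩
  · have := conj_mem_kq t hk
    rwa [e1] at this
  · have htw : t * (p * q) * t⁻¹ = p * q := conj_eq_of_comm (h.kq_p ht)
    have huc := h.ii_le_centralizer hu
    have hkw : k * (p * q) * k⁻¹ = p * q := conj_eq_of_comm (h.V_comm hw hkV).symm
    rcases h.kq_cases hw ht (hu _ hw hw1) with e3 | e3
    · have e4 : t⁻¹ * u * t = u := by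
        calc t⁻¹ * u * t = t⁻¹ * (t * u * t⁻¹) * t := by rw [e3]
          _ = u := by group
      calc t * k * t⁻¹ * u * (t * k * t⁻¹)⁻¹ = t * (k * (t⁻¹ * u * t) * k⁻¹) * t⁻¹ := by group
        _ = t * (q * u) * t⁻¹ := by rw [e4, hku]
        _ = (t * q * t⁻¹) * (t * u * t⁻¹) := by group
        _ = p * u := by rw [e1, e3]
    · have e4 : t⁻¹ * u * t = p * q * u := by
        have h5 : t * (p * q * u) * t⁻¹ = u := by
          calc t * (p * q * u) * t⁻¹ = (t * (p * q) * t⁻¹) * (t * u * t⁻¹) := by group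
            _ = (p * q) * (p * q) * u := by rw [htw, e3]; group
            _ = u := by rw [h.ln.sq _ hw, one_mul]
        calc t⁻¹ * u * t = t⁻¹ * (t * (p * q * u) * t⁻¹) * t := by rw [h5]
          _ = p * q * u := by group
      calc t * k * t⁻¹ * u * (t * k * t⁻¹)⁻¹ = t * (k * (t⁻¹ * u * t) * k⁻¹) * t⁻¹ := by group
        _ = t * ((k * (p * q) * k⁻¹) * (k * u * k⁻¹)) * t⁻¹ := by rw [e4]; group
        _ = t * (p * q * (q * u)) * t⁻¹ := by rw [hkw, hku]
        _ = (t * (p * q) * t⁻¹) * (t * q * t⁻¹) * (t * u * t⁻¹) := by group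
        _ = (p * q) * p * (p * q * u) := by rw [htw, e1, e3]
        _ = (p * q) * (p * p) * (q * u) := by group
        _ = p * (q * q) * u := by rw [h.ln.sq p hp, mul_one]; group
        _ = p * u := by rw [h.ln.sq q hq, mul_one]

/-- (F2): for `u ∈ I - V` the group `N_G(V) ∩ C_G(u)` is transitive on the points of `V`. -/
theorem ftwo [Finite G] (h : Flag T V z) {u : G} (hu : u ∈ ii V) (huV : u ∉ V) {p q : G} (hp : p ∈ V)
    (hp1 : p ≠ 1) (hq : q ∈ V) (hq1 : q ≠ 1) :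
    ∃ g ∈ normalizer (V : Set G), g * u = u * g ∧ g * p * g⁻¹ = q := by
  by_cases hpq : p = q
  · subst hpq
    exact ⟨1, one_mem _, by simp, by simp⟩
  have hw : q * p ∈ V := mul_mem hq hp
  have hw1 : q * p ≠ 1 := h.mul_ne_one hp (Ne.symm hpq)
  have hpw : p ≠ q * p := fun e => hq1 (by simpa using e.symm)
  obtain ⟨t, ht, ht1⟩ := h.exists_mover hw hw1
  have e1 := h.move hw hw1 hp hp1 hpw ht ht1
  have e2 : q * p * p = q := by rw [mul_assoc, h.ln.sq p hp, mul_one]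
  rw [e2] at e1
  have htn := h.kq_le_normalizer hw hw1 ht
  rcases h.kq_cases hw ht (hu _ hw hw1) with e3 | e3
  · exact ⟨t, htn, comm_of_conj_eq e3, e1⟩
  · obtain ⟨k, hk, hkV, hku⟩ := h.fu hu huV hw hw1
    refine ⟨k * t, mul_mem (h.kq_le_normalizer hw hw1 hk) htn, comm_of_conj_eq ?_, ?_⟩
    · have hkw : k * (q * p) * k⁻¹ = q * p := conj_eq_of_comm (h.V_comm hw hkV).symm
      calc k * t * u * (k * t)⁻¹ = k * (t * u * t⁻¹) * k⁻¹ := by group
        _ = (k * (q * p) * k⁻¹) * (k * u * k⁻¹) := by rw [e3]; group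
        _ = (q * p) * (q * p) * u := by rw [hkw, hku]; group
        _ = u := by rw [h.ln.sq _ hw, one_mul]
    · calc k * t * p * (k * t)⁻¹ = k * (t * p * t⁻¹) * k⁻¹ := by group
        _ = k * q * k⁻¹ := by rw [e1]
        _ = q := conj_eq_of_comm (h.V_comm hq hkV).symm

end Flag


namespace Flag

variable {T V : Subgroup G} {z : G}

/-! ### the duality at the points -/

/-- `K_p` acts on `W_p` by multiplication with `1` or `p` -/
theorem dw (h : Flag T V z) {p : G} (hp : p ∈ V) (hp1 : p ≠ 1) : DW p (ws V p) (kq V p) where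
  q_mem := h.V_le hp hp1 hp
  comm := h.comm hp hp1
  sq := h.sq hp hp1
  cent := fun _ hk => h.kq_p hk
  act := fun _ hk _ hw => h.kq_cases hp hk hw

/-- the same for all points of the geometry -/
theorem dw_conj (h : Flag T V z) (g : G) :
    DW (g * z * g⁻¹) (ws V (g * z * g⁻¹)) (kq V (g * z * g⁻¹)) := by
  have h1 := (h.conj g).dw (h.conj g).ln.z_mem (h.conj g).ln.z_ne
  rwa [ws_cj, kq_cj] at h1

/-- `N_p ∩ V = ⟨p⟩` -/
theorem nn_inf_V (h : Flag T V z) {p u : G} (hp : p ∈ V) (hp1 : p ≠ 1) (hu : u ∈ V)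
    (hun : u ∈ nn (ws V p) (kq V p)) : u = 1 ∨ u = p := by
  by_contra hcon
  push Not at hcon
  obtain ⟨k, hk, hk1⟩ := h.exists_mover hp hp1
  have e1 := h.move hp hp1 hu hcon.1 hcon.2 hk hk1
  have e2 := (mem_nn.1 hun).2 k hk
  rw [conj_eq_of_comm e2] at e1
  exact hp1 (by simpa using e1.symm)

/-- **(D1)** `N_p ∩ I = ⟨p⟩` -/
theorem nn_ii [Finite G] (h : Flag T V z) {p u : G} (hp : p ∈ V) (hp1 : p ≠ 1) (hu : u ∈ ii V)
    (hun : u ∈ nn (ws V p) (kq V p)) : u = 1 ∨ u = p := by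
  by_cases huV : u ∈ V
  · exact h.nn_inf_V hp hp1 huV hun
  · obtain ⟨k, hk, -, e⟩ := h.fu hu huV hp hp1
    have e2 := (mem_nn.1 hun).2 k hk
    rw [conj_eq_of_comm e2] at e
    exact absurd (by simpa using e.symm) hp1

/-- **(D1)** `N_p ∩ W_q = ⟨p⟩` for `p ≠ q` on a line -/
theorem nn_inf [Finite G] (h : Flag T V z) {p q : G} (hp : p ∈ V) (hp1 : p ≠ 1) (hq : q ∈ V) (hq1 : q ≠ 1)
    (hqp : q ≠ p) : nn (ws V p) (kq V p) ⊓ ws V q = zpowers p := by
  apply le_antisymm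
  · intro u hu
    obtain ⟨hu1, hu2⟩ := mem_inf.1 hu
    have hui : u ∈ ii V := h.mem_ii hp hp1 hq hq1 hqp (mem_nn.1 hu1).1 hu2
    rcases h.nn_ii hp hp1 hui hu1 with e | e
    · rw [e]; exact one_mem _
    · rw [e]; exact mem_zpowers _
  · rw [zpowers_le]
    exact mem_inf.2 ⟨(h.dw hp hp1).q_mem_nn, h.V_le hq hq1 hp⟩

theorem nn_inf_ii [Finite G] (h : Flag T V z) {p : G} (hp : p ∈ V) (hp1 : p ≠ 1) :
    nn (ws V p) (kq V p) ⊓ ii V = zpowers p := by
  obtain ⟨q, hq, hq1, hqp⟩ := h.exists_q hp hp1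
  apply le_antisymm
  · rw [← h.nn_inf hp hp1 hq hq1 hqp]
    exact inf_le_inf_left _ (ii_le hq hq1)
  · rw [zpowers_le]
    exact mem_inf.2 ⟨(h.dw hp hp1).q_mem_nn, h.V_le_ii hp⟩

/-- **(D1)** `|N_p| ≤ 2 |W_p : I|` -/
theorem card_nn [Finite G] (h : Flag T V z) {p : G} (hp : p ∈ V) (hp1 : p ≠ 1) :
    Nat.card (nn (ws V p) (kq V p)) ≤ 2 * (ii V).relIndex (ws V p) := by
  set N := nn (ws V p) (kq V p) with hN
  have h1 : (N ⊓ ii V).relIndex N ≤ (ii V).relIndex (ws V p) := by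
    have h2 : (ii V ⊓ N).relIndex N = (ii V).relIndex N := inf_relIndex_right _ _
    rw [inf_comm, h2]
    have h3 : (ii V).relIndex (ws V p) ≠ 0 := by
      have : ((ii V).subgroupOf (ws V p)).FiniteIndex := inferInstance
      exact this.index_ne_zero
    exact relIndex_le_of_le_right inf_le_left h3
  have h4 := card_mul_relIndex_of_le (H := N ⊓ ii V) (K := N) inf_le_left
  have h5 : Nat.card (N ⊓ ii V : Subgroup G) ≤ 2 := by
    rw [hN, h.nn_inf_ii hp hp1, Nat.card_zpowers]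
    have h6 : p ^ 2 = 1 := by rw [pow_two]; exact h.ln.sq p hp
    exact orderOf_le_of_pow_eq_one (by norm_num) h6
  calc Nat.card N = Nat.card (N ⊓ ii V : Subgroup G) * (N ⊓ ii V).relIndex N := h4.symm
    _ ≤ 2 * (ii V).relIndex (ws V p) := Nat.mul_le_mul h5 h1

/-! ### (D6) -/

/-- **(D6)** `V ≤ U ≤ I`, `w ∈ I - U`: some element of `K_p ∩ C(V)` centralises `U` and moves `w` to `p w`. -/
theorem exists_transv [Finite G] (h : Flag T V z) {p : G} (hp : p ∈ V) (hp1 : p ≠ 1) {U : Subgroup G}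
    (hVU : V ≤ U) (hU : U ≤ ii V) {w : G} (hw : w ∈ ii V) (hwU : w ∉ U) :
    ∃ k ∈ kq V p, k ∈ centralizer (V : Set G) ∧ (∀ u ∈ U, k * u = u * k) ∧ k * w * k⁻¹ = p * w := by
  have hDW := h.dw hp hp1
  have hUW : U ≤ ws V p := hU.trans (ii_le hp hp1)
  obtain ⟨k, hk, hkU, hkw⟩ := hDW.exists_mover hUW (ii_le hp hp1 hw) (fun hmem => hwU (by
    obtain ⟨u, hu, n, hn, rfl⟩ := mem_sup_of_comm hDW.comm hUW (inf_le_left : nn (ws V p) (kq V p) ≤ _) hmem
    have hni : n ∈ ii V := by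
      have : n = u⁻¹ * (u * n) := by group
      rw [this]
      exact mul_mem (inv_mem (hU hu)) hw
    rcases h.nn_ii hp hp1 hni hn with e | e
    · rw [e, mul_one]; exact hu
    · rw [e]; exact mul_mem hu (hVU hp)))
  refine ⟨k, hk, ?_, hkU, hkw⟩
  rw [mem_centralizer_iff]
  exact fun v hv => (hkU v (hVU hv)).symm

/-- (D6), with the axis: for `U` of index 2 in `I`, `V ≤ U`, the centraliser of the element in `I` is `U`. -/
theorem exists_transv_eq [Finite G] (h : Flag T V z) {p : G} (hp : p ∈ V) (hp1 : p ≠ 1) {U : Subgroup G}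
    (hVU : V ≤ U) (hU : U ≤ ii V) (h2 : U.relIndex (ii V) = 2) :
    ∃ k ∈ kq V p, k ∈ centralizer (V : Set G) ∧ ∀ w ∈ ii V, (k * w = w * k ↔ w ∈ U) ∧
      (w ∉ U → k * w * k⁻¹ = p * w) := by
  obtain ⟨w₀, hw₀, hw₀U⟩ : ∃ w ∈ ii V, w ∉ U := by
    by_contra hcon
    push Not at hcon
    rw [relIndex_eq_one.2 hcon] at h2
    norm_num at h2
  obtain ⟨k, hk, hkV, hkU, hkw⟩ := h.exists_transv hp hp1 hVU hU hw₀ hw₀U
  have key : ∀ w ∈ ii V, w ∉ U → k * w * k⁻¹ = p * w := by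
    intro w hw hwU
    have h3 := Subgroup.relIndex_eq_two_iff.1 h2
    obtain ⟨a, ha, hx⟩ := h3
    have haU : a ∉ U := by
      rcases hx 1 (one_mem _) with ⟨h4, h5⟩ | ⟨h4, h5⟩
      · exact absurd (one_mem U) h5
      · rwa [one_mul] at h5
    have hmul : ∀ v ∈ ii V, v ∉ U → v * a ∈ U := by
      intro v hv hvU
      rcases hx v hv with ⟨h4, -⟩ | ⟨h4, -⟩
      · exact h4
      · exact absurd h4 hvU
    have h5 : w * w₀⁻¹ ∈ U := by
      have : w * w₀⁻¹ = (w * a) * (w₀ * a)⁻¹ := by group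
      rw [this]
      exact mul_mem (hmul w hw hwU) (inv_mem (hmul w₀ hw₀ hw₀U))
    have h6 := conj_eq_of_comm (hkU _ h5)
    have h7 := h.comm hp hp1 p (h.V_le hp hp1 hp) (w * w₀⁻¹) (ii_le hp hp1 (hU h5))
    calc k * w * k⁻¹ = (k * (w * w₀⁻¹) * k⁻¹) * (k * w₀ * k⁻¹) := by group
      _ = (w * w₀⁻¹) * (p * w₀) := by rw [h6, hkw]
      _ = (w * w₀⁻¹ * p) * w₀ := by group
      _ = (p * (w * w₀⁻¹)) * w₀ := by rw [h7]
      _ = p * w := by group
  refine ⟨k, hk, hkV, fun w hw => ⟨⟨fun e => ?_, fun hwU => hkU w hwU⟩, key w hw⟩⟩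
  by_contra hwU
  have e1 := key w hw hwU
  rw [conj_eq_of_comm e] at e1
  exact hp1 (by simpa using e1.symm)

/-! ### (D2), (D3) -/

theorem le_normalizer_ws' {V : Subgroup G} {q u : G} (hu : u * q = q * u) :
    (∀ w ∈ ws V q, u * w * u⁻¹ ∈ ws V q) ∧ ∀ k ∈ kq V q, u * k * u⁻¹ ∈ kq V q := by
  have hu' : u ∈ centralizer ({q} : Set G) := mem_centralizer_singleton_iff.2 hu
  exact ⟨fun w hw => (mem_normalizer_iff.1 (centralizer_le_normalizer_ws V q hu') w).1 hw,
    fun k hk => (mem_normalizer_iff.1 (centralizer_le_normalizer_kq V q hu') k).1 hk⟩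

/-- The hypotheses of (D2) for `X ≤ C(q)` and `p ∈ W_q`, `X` normalised by `C_{K_q}(p)`. -/
theorem nrm {V X : Subgroup G} {p q : G} (hp : p ∈ ws V q) (hX : ∀ u ∈ X, u * q = q * u)
    (hn : ∀ k ∈ kq V q, k * p = p * k → ∀ u ∈ X, k * u * k⁻¹ ∈ X) : DW.Nrm q p (ws V q) (kq V q) X where
  p_mem := hp
  cent := hX
  W_norm := fun u hu w hw => (le_normalizer_ws' (hX u hu)).1 w hw
  K_norm := fun u hu k hk => (le_normalizer_ws' (hX u hu)).2 k hk
  norm := hn

/-- the case `X = W_p` -/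
theorem nrm_ws {V : Subgroup G} {p q : G} (hp : p ∈ ws V q) (hX : ∀ u ∈ ws V p, u * q = q * u) :
    DW.Nrm q p (ws V q) (kq V q) (ws V p) :=
  nrm hp hX fun _ _ hkp u hu => (le_normalizer_ws' hkp).1 u hu

/-- **(D3)**, all conjugates: `q = z^g`, `p ∈ W_q`, `W_p ≤ C(q)`, `W_p ∩ K_q` centralises `W_q`:
`[W_q, W_p] ≤ ⟨p⟩ N_q`. -/
theorem comm_mem (h : Flag T V z) {g p q : G} (hq : q = g * z * g⁻¹) (hp : p ∈ ws V q)
    (hX : ∀ u ∈ ws V p, u * q = q * u) (hc : ∀ e ∈ ws V p, e ∈ kq V q → ∀ w ∈ ws V q, e * w = w * e)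
    {w u : G} (hw : w ∈ ws V q) (hu : u ∈ ws V p) :
    u * w * u⁻¹ * w⁻¹ ∈ zpowers p ⊔ nn (ws V q) (kq V q) := by
  subst hq
  exact (h.dw_conj g).comm_mem (nrm_ws hp hX) hw (fun e he => hc e (mem_inf.1 he).1 (mem_inf.1 he).2 w hw) hu

/-- (D3) for `q ∉ W_p` -/
theorem comm_mem' (h : Flag T V z) {g p q : G} (hq : q = g * z * g⁻¹) (hp : p ∈ ws V q)
    (hX : ∀ u ∈ ws V p, u * q = q * u) (hpq : ∀ w ∈ ws V q, w * p = p * w) (hqp : q ∉ ws V p)
    {w u : G} (hw : w ∈ ws V q) (hu : u ∈ ws V p) :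
    u * w * u⁻¹ * w⁻¹ ∈ zpowers p ⊔ nn (ws V q) (kq V q) := by
  subst hq
  exact (h.dw_conj g).comm_mem' (nrm_ws hp hX) (fun w hw u hu => (le_normalizer_ws' (hpq w hw)).1 u hu) hqp hw hu

/-! ### (D4), (D5): claim A (a) -/

/-- `N_q ∩ I_l ≤ ⟨q⟩` for the line `l = V^g` on the point `q = z^g` -/
theorem ii_inf_nn_conj [Finite G] (h : Flag T V z) (g : G) :
    ii (cj g V) ⊓ nn (ws V (g * z * g⁻¹)) (kq V (g * z * g⁻¹)) ≤ zpowers (g * z * g⁻¹) := by
  have h1 := (h.conj g).nn_inf_ii (h.conj g).ln.z_mem (h.conj g).ln.z_ne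
  rw [ws_cj, kq_cj] at h1
  rw [inf_comm]
  exact h1.le

/-- `I_l ≤ W_q` for the line `l = V^g` on the point `q = z^g` -/
theorem ii_le_ws_conj (h : Flag T V z) (g : G) : ii (cj g V) ≤ ws V (g * z * g⁻¹) := by
  have h1 := ii_le (V := cj g V) (h.conj g).ln.z_mem (h.conj g).ln.z_ne
  rwa [ws_cj] at h1

/-- **(D4)**, general form: `q = z^g`, `l = V^g` a line on `q`, `I = ii (V^g)`; `b ∈ W_q` centralises `X ∩ K_q`,
`A ≤ X`, `F ≤ [A, b]`, `q ∉ F`, `2 |W_q : I| ≤ |F|`, `A` centralises `F` and `I`: then `A` centralises `b`. -/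
theorem count [Finite G] (h : Flag T V z) {g p q b : G} (hq : q = g * z * g⁻¹) {X A F : Subgroup G}
    (hX : DW.Nrm q p (ws V q) (kq V q) X) (hb : b ∈ ws V q) (hbc : ∀ e ∈ X, e ∈ kq V q → e * b = b * e)
    (hAX : A ≤ X) (hF : ∀ f ∈ F, ∃ a ∈ A, f = a * b * a⁻¹ * b⁻¹) (hqF : q ∉ F)
    (hcard : 2 * (ii (cj g V)).relIndex (ws V q) ≤ Nat.card F)
    (hAF : ∀ a ∈ A, ∀ f ∈ F, a * f = f * a) (hAI : ∀ a ∈ A, ∀ f ∈ ii (cj g V), a * f = f * a)
    {x : G} (hx : x ∈ A) : x * b = b * x := by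
  subst hq
  exact (h.dw_conj g).count hX hb (fun e he => hbc e (mem_inf.1 he).1 (mem_inf.1 he).2) hAX hF hqF
    (h.ii_le_ws_conj g) (h.ii_inf_nn_conj g) hcard hAF hAI hx

/-- **(D4)** the case `q ∉ X`, `W_q ≤ N(X)` -/
theorem count' [Finite G] (h : Flag T V z) {g p q b : G} (hq : q = g * z * g⁻¹) {X A F : Subgroup G}
    (hX : DW.Nrm q p (ws V q) (kq V q) X) (hWX : ∀ w ∈ ws V q, ∀ u ∈ X, w * u * w⁻¹ ∈ X) (hqX : q ∉ X)
    (hb : b ∈ ws V q) (hAX : A ≤ X) (hF : ∀ f ∈ F, ∃ a ∈ A, f = a * b * a⁻¹ * b⁻¹)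
    (hcard : 2 * (ii (cj g V)).relIndex (ws V q) ≤ Nat.card F)
    (hAF : ∀ a ∈ A, ∀ f ∈ F, a * f = f * a) (hAI : ∀ a ∈ A, ∀ f ∈ ii (cj g V), a * f = f * a)
    {x : G} (hx : x ∈ A) : x * b = b * x := by
  subst hq
  exact (h.dw_conj g).count' hX hWX hqX hb hAX hF (h.ii_le_ws_conj g) (h.ii_inf_nn_conj g) hcard hAF hAI hx

/-- **(D4) + (D5)**: claim A (a). `x ∈ A ≤ X` does not centralise `b ∈ W_q`; for every `c ∈ C_{W_q}(x)` the
commutators `[A, c b]` contain a group `F` centralised by `A`, `q ∉ F`, `2 |W_q : I| ≤ |F|`. Then some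
`e ∈ X ∩ K_q` centralises `C_{W_q}(x)` and moves `b` to `q b`. -/
theorem exists_e [Finite G] (h : Flag T V z) {g p q b x : G} (hq : q = g * z * g⁻¹) {X A : Subgroup G}
    (hX : DW.Nrm q p (ws V q) (kq V q) X) (hb : b ∈ ws V q) (hAX : A ≤ X) (hx : x ∈ A) (hxb : x * b ≠ b * x)
    (hF : ∀ c ∈ ws V q, x * c = c * x → ∃ F : Subgroup G,
      (∀ f ∈ F, ∃ a ∈ A, f = a * (c * b) * a⁻¹ * (c * b)⁻¹) ∧ q ∉ F ∧
      2 * (ii (cj g V)).relIndex (ws V q) ≤ Nat.card F ∧ ∀ a ∈ A, ∀ f ∈ F, a * f = f * a)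
    (hAI : ∀ a ∈ A, ∀ f ∈ ii (cj g V), a * f = f * a) :
    ∃ e ∈ X, e ∈ kq V q ∧ (∀ c ∈ ws V q, x * c = c * x → e * c = c * e) ∧ e * b * e⁻¹ = q * b := by
  have hDW : DW q (ws V q) (kq V q) := by subst hq; exact h.dw_conj g
  let C : Subgroup G := ws V q ⊓ centralizer ({x} : Set G)
  obtain ⟨e, he, heC, heb⟩ := hDW.exists_e (C := C) (E := X ⊓ kq V q) inf_le_left inf_le_right hb (by
    intro c hc
    obtain ⟨hcW, hcx⟩ := mem_inf.1 hc
    rw [mem_centralizer_singleton_iff] at hcx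
    by_contra hcon
    push Not at hcon
    obtain ⟨F, hF1, hF2, hF3, hF4⟩ := hF c hcW hcx.symm
    have h1 := h.count hq hX (mul_mem hcW hb) (fun e he1 he2 => hcon e (mem_inf.2 ⟨he1, he2⟩)) hAX hF1 hF2 hF3
      hF4 hAI hx
    apply hxb
    calc x * b = c⁻¹ * (c * x) * b := by group
      _ = c⁻¹ * (x * (c * b)) := by rw [hcx]; group
      _ = c⁻¹ * (c * b * x) := by rw [h1]
      _ = b * x := by group)
  obtain ⟨he1, he2⟩ := mem_inf.1 he
  exact ⟨e, he1, he2, fun c hc hcx => heC c (mem_inf.2 ⟨hc, mem_centralizer_singleton_iff.2 hcx.symm⟩), heb⟩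

end Flag

end Cfsg.Agent.Omega.NO3S.Dual

end

section


/-!
# NO-3S, `q = 2`: `Dual.Flag` is helper740's `Pt.Fr`
-/

set_option autoImplicit false

namespace Cfsg.Agent.Omega.NO3S.Dual

universe u

variable {G : Type u} [Group G] {T V : Subgroup G} {z : G}

theorem Flag.of_fr (h : Pt.Fr T V z) : Flag T V z := ⟨h.ln, h.ab, h.f1⟩

theorem Flag.toFr (h : Flag T V z) : Pt.Fr T V z := ⟨h.ln, h.ab, h.f1⟩

end Cfsg.Agent.Omega.NO3S.Dual

namespace Cfsg.Agent.Omega.NO3S.Pt.Fr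

open Subgroup Cfsg Cfsg.Agent.ZN Cfsg.Agent.MinSimple.Geo Cfsg.Agent.Omega.CaseL
open Cfsg.Agent.Omega.NO3S.Dual

universe u

variable {G : Type u} [Group G] {T V : Subgroup G} {z : G}

/-- the flag of helper804's duality tools -/
theorem toFlag (h : Fr T V z) : Flag T V z := ⟨h.ln, h.ab, h.f1⟩

end Cfsg.Agent.Omega.NO3S.Pt.Fr

end

section


/-!
# NO-3S, `|V| = 4`: LEMMA D (helper502 #15661), K-free, all `n ≥ 1`

* `Fr.dw` : `DW p (W_p) (K_p)` for every point `p` (duality, `Dual/Basic.lean`);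
* `Fr.lemD` : `x`, `x'` collinear with `p`, `≠ p`, `G* = ⟨C(W_x), C(W_x')⟩`: either `W_x ∩ W_x' ≤ W_p`, or the
  `G*`-conjugates of `x` and of `x'` lie in `⟨x, x'⟩ N_p`, `N_p = C_{W_p}(K_p)`;
* `Fr.inf_mul_le` : `W_x ∩ W_{px} ≤ W_p`.
-/

set_option autoImplicit false
set_option linter.unusedSectionVars false

namespace Cfsg.Agent.Omega.NO3S.Pt

open Subgroup Cfsg Cfsg.Agent.ZN Cfsg.Agent.MinSimple.Geo Cfsg.Agent.Omega.CaseL Cfsg.Agent.Omega.NO3S.TwoOne
open Cfsg.Agent.Omega.NO3S.Dual (nn mem_nn DW)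
open Cfsg.Agent.ZN.Block (conj_mem_of_normalizer conj_mem_of_normalizer' le_normalizer_of_forall
  mem_normalizer_of)

universe u

variable {G : Type u} [Group G] {T V : Subgroup G} {z : G}

theorem Fr.dw (h : Fr T V z) {p : G} (hp : Col V p p) : DW p (ws V p) (kq V p) where
  q_mem := h.mem_ws_self hp
  comm := h.ws_comm hp
  sq := h.ws_sq hp
  cent := fun _ hk => mem_centralizer_singleton_iff.mp (kq_le_centralizer V p hk)
  act := fun _ hk _ hw => h.kq_cases' hp hk hw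

/-- `W_x ∩ W_{px} ≤ W_p` -/
theorem Fr.inf_mul_le (h : Fr T V z) {p x : G} (hx : Col V p x) (hxp : x ≠ p) :
    ws V x ⊓ ws V (p * x) ≤ ws V p := by
  rintro u ⟨h1, h2⟩
  obtain ⟨g, hp, hx', hp1, hx1⟩ := hx
  obtain ⟨k, -, -, hf⟩ := h.flag hp hp1
  have hpx : p * x ∈ cj g V := mul_mem hp hx'
  have hpx1 : p * x ≠ 1 := hf.mul_ne_one hx' (Ne.symm hxp)
  exact h.ii_cj_le hp hp1 (h.mem_ii_cj hx' hx1 hpx hpx1 (fun e => hp1 (by simpa using e)) h1 h2)

/-- **LEMMA D** -/
theorem Fr.lemD [Finite G] (h : Fr T V z) {p x x' : G} (hx : Col V p x) (hx' : Col V p x') (hxp : x ≠ p)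
    (hxp' : x' ≠ p) :
    ws V x ⊓ ws V x' ≤ ws V p ∨
      ∀ g ∈ centralizer (ws V x : Set G) ⊔ centralizer (ws V x' : Set G),
        g * x * g⁻¹ ∈ closure {x, x'} ⊔ nn (ws V p) (kq V p) ∧
        g * x' * g⁻¹ ∈ closure {x, x'} ⊔ nn (ws V p) (kq V p) := by
  set Gs := centralizer (ws V x : Set G) ⊔ centralizer (ws V x' : Set G) with hGs
  -- `G* ≤ C(p)`
  have hpx : p ∈ ws V x := h.mem_ws_of_col hx.symm
  have hpx' : p ∈ ws V x' := h.mem_ws_of_col hx'.symm
  have hGp : Gs ≤ centralizer ({p} : Set G) := by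
    refine sup_le ?_ ?_
    · intro c hc
      rw [mem_centralizer_singleton_iff]
      exact (mem_centralizer_iff.mp hc p hpx).symm
    · intro c hc
      rw [mem_centralizer_singleton_iff]
      exact (mem_centralizer_iff.mp hc p hpx').symm
  have hGX : Gs ≤ centralizer ((ws V x ⊓ ws V x' : Subgroup G) : Set G) :=
    sup_le (centralizer_le inf_le_left) (centralizer_le inf_le_right)
  -- an element of `X` lies in every `W_{x^g}`
  have hmem : ∀ y : G, ∀ g ∈ Gs, ∀ u ∈ ws V x ⊓ ws V x', u ∈ ws V y → u ∈ ws V (g * y * g⁻¹) := by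
    intro y g hg u hu huy
    have h1 := conj_mem_ws g huy
    have h2 := mem_centralizer_iff.mp (hGX hg) u hu
    have h3 : g * u * g⁻¹ = u := by rw [← h2]; group
    rwa [h3] at h1
  -- case A
  by_cases hA : ∃ g ∈ Gs, g * x * g⁻¹ = p * x
  · left
    obtain ⟨g, hg, e⟩ := hA
    intro u hu
    have := hmem x g hg u hu hu.1
    rw [e] at this
    exact h.inf_mul_le hx hxp ⟨hu.1, this⟩
  by_cases hA' : ∃ g ∈ Gs, g * x' * g⁻¹ = p * x'
  · left
    obtain ⟨g, hg, e⟩ := hA'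
    intro u hu
    have := hmem x' g hg u hu hu.2
    rw [e] at this
    exact h.inf_mul_le hx' hxp' ⟨hu.2, this⟩
  right
  have hU : closure {x, x'} ≤ ws V p := by
    rw [closure_le]
    rintro y (rfl | rfl)
    · exact h.mem_ws_of_col hx
    · exact h.mem_ws_of_col hx'
  have hxU : x ∈ closure ({x, x'} : Set G) := subset_closure (Or.inl rfl)
  have hxU' : x' ∈ closure ({x, x'} : Set G) := subset_closure (Or.inr rfl)
  have hgen : ∀ y ∈ closure ({x, x'} : Set G), (¬ ∃ g ∈ Gs, g * y * g⁻¹ = p * y) → ∀ g ∈ Gs,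
      g * y * g⁻¹ ∈ closure {x, x'} ⊔ nn (ws V p) (kq V p) := by
    intro y hy hno g hg
    refine (h.dw hx.left).dual hU ?_ fun k hk hkU => ?_
    · exact conj_mem_of_normalizer (centralizer_le_normalizer_ws V p) (hGp hg) (hU hy)
    · have hkx := hkU x hxU
      have hkx' := hkU x' hxU'
      have hky := hkU y hy
      have hkn : ∀ w : G, k * w = w * k → k ∈ normalizer ((centralizer (ws V w : Set G) : Subgroup G) : Set G) :=
        fun w hw => normalizer_le_normalizer_centralizer _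
          (centralizer_le_normalizer_ws V w (mem_centralizer_singleton_iff.mpr hw))
      have hkG : k * g * k⁻¹ ∈ Gs := by
        have h1 : cj k Gs = Gs := by
          rw [hGs]
          change Subgroup.map _ _ = _
          rw [Subgroup.map_sup]
          change cj k _ ⊔ cj k _ = _
          rw [cj_eq_of_mem_normalizer (hkn x hkx), cj_eq_of_mem_normalizer (hkn x' hkx')]
        rw [← h1]
        exact conj_mem_cj hg
      have hgy : g * y * g⁻¹ ∈ ws V p :=
        conj_mem_of_normalizer (centralizer_le_normalizer_ws V p) (hGp hg) (hU hy)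
      rcases h.kq_cases' hx.left hk hgy with e | e
      · exact comm_of_conj_eq e
      · exfalso
        refine hno ⟨g⁻¹ * (k * g * k⁻¹), mul_mem (inv_mem hg) hkG, ?_⟩
        have h3 : k⁻¹ * y * k = y := by
          have : k * y = y * k := hky
          rw [mul_assoc, ← this, inv_mul_cancel_left]
        have h4 : g⁻¹ * p * g = p := by
          have := mem_centralizer_singleton_iff.mp (hGp hg)
          rw [mul_assoc, ← this, inv_mul_cancel_left]
        calc g⁻¹ * (k * g * k⁻¹) * y * (g⁻¹ * (k * g * k⁻¹))⁻¹ =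
            g⁻¹ * (k * (g * (k⁻¹ * y * k) * g⁻¹) * k⁻¹) * g := by group
          _ = g⁻¹ * (p * (g * y * g⁻¹)) * g := by rw [h3, e]
          _ = (g⁻¹ * p * g) * y := by group
          _ = p * y := by rw [h4]
  exact fun g hg => ⟨hgen x hxU hA g hg, hgen x' hxU' hA' g hg⟩

end Cfsg.Agent.Omega.NO3S.Pt

end

section


/-!
# NO-3S, `|V| = 4`, `n ≥ 2`: the world W0 (`N_p ≠ p`), definitions (helper56 #21024)

* `NoOv V` : (NO) for the groups `M_q = W_q/⟨q⟩` (from (ML): `TwoFar.gdat` + `MLK.grp`);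
* `Wz T V z n` : the world: (NO); no `x ∼ p` is moved to `p x` by some `f ∈ W_q`, `(p, q)` critical; no mover
  `(x, f)`, `x = r^h`, `h` of odd order inverted by `f ∈ W_q`, `r` the neighbour of `p`, has (D), i.e.
  `W_x ∩ W_{x^f} ≤ W_p`;
* `Can V NV` : a system of canonical vectors: `NV x L c` = "`c ∈ N_x` is a canonical vector of the flag `(x, L)`";
* `One V NV n` : (1) of #21024, `Five V NV n` : (5) of #21024.
-/

set_option autoImplicit false

namespace Cfsg.Agent.Omega.NO3S.WZero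

open Subgroup Cfsg Cfsg.Agent.ZN Cfsg.Agent.MinSimple.Geo Cfsg.Agent.Omega.CaseL Cfsg.Agent.Omega.NO3S.TwoOne
open Cfsg.Agent.Omega.NO3S.Pt
open Cfsg.Agent.Omega.NO3S.Dual (nn mem_nn DW)

universe u

variable {G : Type u} [Group G]

/-- **(NO)**: for every line `L = cj g V` on `q` and every elementary abelian `A ≤ O₂(C_G(L))`:
`|A : C_A(M_q)| ≤ |M_q : C_{M_q}(A)|`, `M_q = W_q/⟨q⟩`. -/
def NoOv (V : Subgroup G) : Prop :=
  ∀ g q : G, q ∈ cj g V → q ≠ 1 → ∀ A : Subgroup G, A ≤ o2 (centralizer ((cj g V : Subgroup G) : Set G)) →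
    (∀ a ∈ A, a * a = 1) →
    ∀ N C : Subgroup G, (∀ a, a ∈ N ↔ a ∈ A ∧ ∀ u ∈ ws V q, a * u * a⁻¹ * u⁻¹ ∈ zpowers q) →
      (∀ u, u ∈ C ↔ u ∈ ws V q ∧ ∀ a ∈ A, a * u * a⁻¹ * u⁻¹ ∈ zpowers q) →
      N.relIndex A ≤ C.relIndex (ws V q)

/-- **the world W0** (without `N_z ≠ ⟨z⟩`) -/
structure Wz (T V : Subgroup G) (z : G) (n : ℕ) : Prop where
  fr : Fr T V z
  two : 2 ≤ n
  noov : NoOv V
  nosw : ∀ p q, Cr V n p q → ∀ x f, Col V p x → x ≠ p → f ∈ ws V q → f * x * f⁻¹ ≠ p * x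
  noD : ∀ p q r, Cr V n p q → Col V p r → r ≠ p → Pth V (n - 1) r q → ∀ f h, f ∈ ws V q → h * p = p * h →
    Odd (orderOf h) → f * h * f⁻¹ = h⁻¹ → h ≠ 1 → f * (h * r * h⁻¹) * f⁻¹ ≠ h * r * h⁻¹ →
    ¬ (ws V (h * r * h⁻¹) ⊓ ws V (f * (h * r * h⁻¹) * f⁻¹) ≤ ws V p)

/-- a system of canonical vectors; the lines are the `cj g V` -/
structure Can (V : Subgroup G) (NV : G → Subgroup G → G → Prop) : Prop where
  /-- existence, for every flag -/
  ex : ∀ {g x : G}, x ∈ cj g V → x ≠ 1 → ∃ c, NV x (cj g V) c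
  /-- equivariance -/
  conj : ∀ {x : G} {L : Subgroup G} {c : G} (g : G), NV x L c → NV (g * x * g⁻¹) (cj g L) (g * c * g⁻¹)
  /-- `n_{x,L} ∈ N_x` -/
  mem : ∀ {x : G} {L : Subgroup G} {c : G}, NV x L c → c ∈ nn (ws V x) (kq V x)
  /-- unique modulo `⟨x⟩` -/
  uniq : ∀ {x : G} {L : Subgroup G} {c c' : G}, NV x L c → NV x L c' → c' = c ∨ c' = x * c
  mulx : ∀ {x : G} {L : Subgroup G} {c : G}, NV x L c → NV x L (x * c)
  /-- `n_{x,L} ∉ ⟨x⟩` -/
  nin : ∀ {x : G} {L : Subgroup G} {c : G}, NV x L c → c ∉ zpowers x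
  /-- `ν = n_{x,L} y` depends only on `y N_x` -/
  shift : ∀ {x : G} {g g' c c' y y' : G}, NV x (cj g V) c → NV x (cj g' V) c' → x ∈ cj g V → x ∈ cj g' V →
    y ∈ cj g V → y' ∈ cj g' V → y ∉ zpowers x → y' ∉ zpowers x →
    y * y' ∈ nn (ws V x) (kq V x) → c * c' * (y * y') ∈ zpowers x

/-- **(1)**: `n_{y,L}` commutes with `W_q` if `L` has a point at distance `< n` from `q` -/
def One (V : Subgroup G) (NV : G → Subgroup G → G → Prop) (n : ℕ) : Prop :=
  ∀ g q r y c : G, r ∈ cj g V → r ≠ 1 → (∃ k < n, Pth V k q r) → y ∈ cj g V → y ≠ 1 → NV y (cj g V) c →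
    ∀ b ∈ ws V q, b * c = c * b

/-- **(5)**: `f ∈ N_q`, `x ∼ p`, `x ∉ W_q`: `n_x n_x^f ∈ W_p`, `n_x = n_{x,px}` -/
def Five (V : Subgroup G) (NV : G → Subgroup G → G → Prop) (n : ℕ) : Prop :=
  ∀ p q f g x c : G, Cr V n p q → f ∈ nn (ws V q) (kq V q) → p ∈ cj g V → x ∈ cj g V → x ≠ 1 → x ≠ p →
    x ∉ ws V q → NV x (cj g V) c → c * (f * c * f⁻¹) ∈ ws V p

/-- **LEMMA S0**, (6) of #21024 -/
def SZero (V : Subgroup G) (NV : G → Subgroup G → G → Prop) : Prop :=
  ∀ p x x' g g' c c' : G, p ∈ cj g V → x ∈ cj g V → p ∈ cj g' V → x' ∈ cj g' V → p ≠ 1 → x ≠ 1 → x' ≠ 1 →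
    x ≠ p → x' ≠ p → x' ≠ x → x' ≠ p * x → x * x' ∈ nn (ws V p) (kq V p) →
    NV x (cj g V) c → NV x' (cj g' V) c' → c * c' ∉ ws V p

end Cfsg.Agent.Omega.NO3S.WZero

end

section


/-!
# NO-3S, `|V| = 4`: LEMMA S0 of helper56 #21024 (6)

`CV V nv` : a family of canonical vectors: `nv x L n` = "`n` is a lift of the canonical vector of the flag `x ∈ L`"
(`L` a conjugate of `V`): `n ∈ N_x = C_{W_x}(K_x)`, unique up to `x`, equivariant, and `inj`: for `x' ∈ x N_p` the
canonical vectors of the flags `(p, px)`, `(p, px')` are different modulo `p` unless `x' ∈ x⟨p⟩`.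

* `t6` : `Ω₁ Z(C_G(V)) = V`;
* `CV.s0` : `x, x' ~ p`, `x' ∈ x N_p`, `x' ∉ x⟨p⟩` implies `n_x n_x' ∉ W_p`;
* `sZero` : the same for `Can` (`WZero/Def.lean`).
-/

set_option autoImplicit false
set_option linter.unusedSectionVars false

namespace Cfsg.Agent.Omega.NO3S.WZero

open Subgroup Cfsg Cfsg.Agent.ZN Cfsg.Agent.MinSimple.Geo Cfsg.Agent.Omega.CaseL Cfsg.Agent.Omega.NO3S.TwoOne
  Cfsg.Agent.Omega.NO3S.Pt
open Cfsg.Agent.Omega.NO3S.Dual (nn mem_nn DW)
open Cfsg.Agent.ZN.Block (conj_mem_of_normalizer conj_mem_of_normalizer' le_normalizer_of_forall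
  mem_normalizer_of)

universe u

variable {G : Type u} [Group G]

/-! ### (T6) -/

/-- **(T6)**: `Ω₁ Z(C_G(V)) ≤ V` -/
theorem t6 [Finite G] {T V : Subgroup G} {z : G} (h : Ln T V z) {u : G}
    (hu : u ∈ centralizer (V : Set G)) (huc : ∀ c ∈ centralizer (V : Set G), c * u = u * c)
    (hsq : u * u = 1) : u ∈ V := by
  have hVc : ∀ {v}, v ∈ V → v ∈ centralizer (V : Set G) := by
    intro v hv
    rw [mem_centralizer_iff]
    intro w hw
    exact h.comm hw hv
  -- the case `u ∈ T`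
  have key : ∀ u ∈ T, u ∈ centralizer (V : Set G) → (∀ c ∈ centralizer (V : Set G), c * u = u * c) →
      u * u = 1 → u ∈ V := by
    intro u huT hu huc hsq
    by_cases hall : ∀ s ∈ T, s * u = u * s
    · rcases h.soc u huT hsq hall with e | e
      · rw [e]; exact one_mem _
      · rw [e]; exact h.z_mem
    push Not at hall
    obtain ⟨s, hs, hsu⟩ := hall
    have hsn := h.T_norm hs
    have hsz : s * z = z * s := mem_centralizer_singleton_iff.mp (h.T_le hs)
    obtain ⟨y, hy, hy1, hyz⟩ := h.exists_y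
    -- `s y s⁻¹ = z y`
    have hnc : ∀ t ∈ T, t ∉ centralizer (V : Set G) → t * y * t⁻¹ = z * y := by
      intro t ht htc
      have htz : t * z = z * t := mem_centralizer_singleton_iff.mp (h.T_le ht)
      have h1 : t * y * t⁻¹ ∈ V := conj_mem_of_normalizer le_rfl (h.T_norm ht) hy
      rcases h.four h.z_mem hy h.z_ne hy1 (Ne.symm hyz) h1 with e | e | e | e
      · exfalso
        apply hy1
        have : y = t⁻¹ * (t * y * t⁻¹) * t := by group
        rw [this, e]; group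
      · exfalso
        apply hyz
        have : y = t⁻¹ * (t * y * t⁻¹) * t := by group
        rw [this, e, mul_assoc, ← htz]; group
      · exfalso
        exact htc (h.mem_centralizer_V hy hy1 hyz htz (comm_of_conj_eq e))
      · exact e
    have hsc : s ∉ centralizer (V : Set G) := fun e => hsu (huc s e)
    have hsy := hnc s hs hsc
    have hcos : ∀ t ∈ T, t ∉ centralizer (V : Set G) → s⁻¹ * t ∈ centralizer (V : Set G) := by
      intro t ht htc
      have hty := hnc t ht htc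
      refine h.mem_centralizer_V hy hy1 hyz ?_ ?_
      · exact mem_centralizer_singleton_iff.mp (mul_mem (inv_mem (h.T_le hs)) (h.T_le ht))
      · refine comm_of_conj_eq ?_
        calc s⁻¹ * t * y * (s⁻¹ * t)⁻¹ = s⁻¹ * (t * y * t⁻¹) * s := by group
          _ = s⁻¹ * (s * y * s⁻¹) * s := by rw [hty, hsy]
          _ = y := by group
    -- an element which commutes with `s` and `C(V)` commutes with `T`
    have hT : ∀ v : G, s * v = v * s → (∀ c ∈ centralizer (V : Set G), c * v = v * c) →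
        ∀ t ∈ T, t * v = v * t := by
      intro v hv hvc t ht
      by_cases htc : t ∈ centralizer (V : Set G)
      · exact hvc t htc
      · have h1 := hvc _ (hcos t ht htc)
        have h2 := mul_comm_of hv h1
        have e : s * (s⁻¹ * t) = t := by group
        rwa [e] at h2
    have hss : s * s ∈ centralizer (V : Set G) := by
      by_contra hc
      have := hcos (s * s) (mul_mem hs hs) hc
      have e : s⁻¹ * (s * s) = s := by group
      rw [e] at this
      exact hsc this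
    set u' := s * u * s⁻¹ with hu'
    have hu'c : u' ∈ centralizer (V : Set G) :=
      conj_mem_of_normalizer (normalizer_le_normalizer_centralizer V) hsn hu
    have hu'cc : ∀ c ∈ centralizer (V : Set G), c * u' = u' * c := by
      intro c hc
      have h1 := huc _ (conj_mem_of_normalizer' (normalizer_le_normalizer_centralizer V) hsn hc)
      calc c * (s * u * s⁻¹) = s * ((s⁻¹ * c * s) * u) * s⁻¹ := by group
        _ = s * (u * (s⁻¹ * c * s)) * s⁻¹ := by rw [h1]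
        _ = s * u * s⁻¹ * c := by group
    have hv1 : s * (u * u') = u * u' * s := by
      apply comm_of_conj_eq
      have h1 : s * s * u = u * (s * s) := huc _ hss
      calc s * (u * u') * s⁻¹ = (s * u * s⁻¹) * ((s * s) * u * (s * s)⁻¹) := by rw [hu']; group
        _ = u' * u := by rw [conj_eq_of_comm h1]
        _ = u * u' := huc u' hu'c
    have hv2 : ∀ c ∈ centralizer (V : Set G), c * (u * u') = u * u' * c := fun c hc =>
      comm_mul_of (huc c hc) (hu'cc c hc)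
    have hvT : u * u' ∈ T := mul_mem huT (mul_mem (mul_mem hs huT) (inv_mem hs))
    have hu'sq : u' * u' = 1 := by
      calc s * u * s⁻¹ * (s * u * s⁻¹) = s * (u * u) * s⁻¹ := by group
        _ = 1 := by rw [hsq]; group
    have hvsq : u * u' * (u * u') = 1 := by
      calc u * u' * (u * u') = u * (u' * u) * u' := by group
        _ = u * (u * u') * u' := by rw [huc u' hu'c]
        _ = (u * u) * (u' * u') := by group
        _ = 1 := by rw [hsq, hu'sq, one_mul]
    have hui : u⁻¹ = u := inv_eq_of_mul_eq_one_right hsq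
    rcases h.soc _ hvT hvsq (hT _ hv1 hv2) with e | e
    · exfalso
      apply hsu
      apply comm_of_conj_eq
      have : u' = u⁻¹ := (inv_eq_of_mul_eq_one_right e).symm
      rw [← hu', this, hui]
    · -- `u' = u z`
      have e1 : s * u * s⁻¹ = u * z := by
        rw [← hu']
        calc u' = u⁻¹ * (u * u') := by group
          _ = u * z := by rw [e, hui]
      have hzu : u * z = z * u := (huc z (hVc h.z_mem)).symm
      have hyu : y * u = u * y := huc y (hVc hy)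
      have hw1 : s * (u * y) = u * y * s := by
        apply comm_of_conj_eq
        calc s * (u * y) * s⁻¹ = (s * u * s⁻¹) * (s * y * s⁻¹) := by group
          _ = u * z * (z * y) := by rw [e1, hsy]
          _ = u * (z * z) * y := by group
          _ = u * y := by rw [h.zz, mul_one]
      have hw2 : ∀ c ∈ centralizer (V : Set G), c * (u * y) = u * y * c := fun c hc =>
        comm_mul_of (huc c hc) (mem_centralizer_iff.mp hc y hy).symm
      have hwsq : u * y * (u * y) = 1 := by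
        calc u * y * (u * y) = u * (y * u) * y := by group
          _ = (u * u) * (y * y) := by rw [hyu]; group
          _ = 1 := by rw [hsq, h.sq y hy, one_mul]
      have hw := h.soc _ (mul_mem huT (h.V_le hy)) hwsq (hT _ hw1 hw2)
      have e2 : u = u * y * y := by rw [mul_assoc, h.sq y hy, mul_one]
      rw [e2]
      rcases hw with e3 | e3
      · rw [e3, one_mul]; exact hy
      · rw [e3]; exact mul_mem h.z_mem hy
  have hun : u ∈ normalizer (V : Set G) := centralizer_le_normalizer _ hu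
  obtain ⟨c, hc, hcT⟩ := exists_cj_le_of_sylow h.T_norm h.two h.T_syl'
    (A := zpowers u) (by simpa using hun) (isPGroup_zpowers hsq)
  have h1 := key (c * u * c⁻¹) (hcT (conj_mem_cj (mem_zpowers _)))
    (conj_mem_of_normalizer (normalizer_le_normalizer_centralizer V) hc hu) ?_ ?_
  · have h2 := conj_mem_of_normalizer' le_rfl hc h1
    have e : c⁻¹ * (c * u * c⁻¹) * c = u := by group
    rwa [e] at h2
  · intro d hd
    have h1 := huc _ (conj_mem_of_normalizer' (normalizer_le_normalizer_centralizer V) hc hd)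
    calc d * (c * u * c⁻¹) = c * ((c⁻¹ * d * c) * u) * c⁻¹ := by group
      _ = c * (u * (c⁻¹ * d * c)) * c⁻¹ := by rw [h1]
      _ = c * u * c⁻¹ * d := by group
  · calc c * u * c⁻¹ * (c * u * c⁻¹) = c * (u * u) * c⁻¹ := by group
      _ = 1 := by rw [hsq]; group

/-! ### canonical vectors -/

/-- a family of canonical vectors of the flags -/
structure CV (V : Subgroup G) (nv : G → Subgroup G → G → Prop) : Prop where
  mem : ∀ g x n, x ∈ cj g V → x ≠ 1 → nv x (cj g V) n → n ∈ nn (ws V x) (kq V x)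
  mul : ∀ g x n, x ∈ cj g V → x ≠ 1 → nv x (cj g V) n → nv x (cj g V) (x * n)
  uniq : ∀ g x n n', x ∈ cj g V → x ≠ 1 → nv x (cj g V) n → nv x (cj g V) n' → n' = n ∨ n' = x * n
  conj : ∀ c g x n, x ∈ cj g V → x ≠ 1 → nv x (cj g V) n →
    nv (c * x * c⁻¹) (cj c (cj g V)) (c * n * c⁻¹)
  ex : ∀ g x, x ∈ cj g V → x ≠ 1 → ∃ n, nv x (cj g V) n
  inj : ∀ g g' p x x' n n', p ∈ cj g V → x ∈ cj g V → p ∈ cj g' V → x' ∈ cj g' V → p ≠ 1 → x ≠ 1 →
    x' ≠ 1 → x ≠ p → x' ≠ p → x⁻¹ * x' ∈ nn (ws V p) (kq V p) → nv p (cj g V) n → nv p (cj g' V) n' →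
    (n' = n ∨ n' = p * n) → x' = x ∨ x' = p * x

namespace CV

variable {T V : Subgroup G} {z : G} {nv : G → Subgroup G → G → Prop}

theorem cj' (c : CV V nv) (a : G) : CV (cj a V) nv where
  mem g x n := by rw [cj_cj, ws_cj, kq_cj]; exact c.mem _ x n
  mul g x n := by rw [cj_cj]; exact c.mul _ x n
  uniq g x n n' := by rw [cj_cj]; exact c.uniq _ x n n'
  conj b g x n := by
    have := c.conj b (g * a) x n
    rw [← cj_cj g a V] at this
    exact this
  ex g x := by rw [cj_cj]; exact c.ex _ x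
  inj g g' p x x' n n' := by rw [cj_cj, cj_cj, ws_cj, kq_cj]; exact c.inj _ _ p x x' n n'

section one

variable {p x y n : G}

theorem mem1 (c : CV V nv) (hx : x ∈ V) (hx1 : x ≠ 1) (hn : nv x V n) : n ∈ nn (ws V x) (kq V x) := by
  have := c.mem 1 x n
  rw [cj_one] at this
  exact this hx hx1 hn

theorem mul1 (c : CV V nv) (hx : x ∈ V) (hx1 : x ≠ 1) (hn : nv x V n) : nv x V (x * n) := by
  have := c.mul 1 x n
  rw [cj_one] at this
  exact this hx hx1 hn

theorem uniq1 (c : CV V nv) {n' : G} (hx : x ∈ V) (hx1 : x ≠ 1) (hn : nv x V n) (hn' : nv x V n') :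
    n' = n ∨ n' = x * n := by
  have := c.uniq 1 x n n'
  rw [cj_one] at this
  exact this hx hx1 hn hn'

theorem conj1 (c : CV V nv) {g : G} (hg : g ∈ normalizer (V : Set G)) (hx : x ∈ V) (hx1 : x ≠ 1)
    (hn : nv x V n) : nv (g * x * g⁻¹) V (g * n * g⁻¹) := by
  have := c.conj g 1 x n
  rw [cj_one, cj_eq_of_mem_normalizer hg] at this
  exact this hx hx1 hn

theorem ex1 (c : CV V nv) (hx : x ∈ V) (hx1 : x ≠ 1) : ∃ n, nv x V n := by
  have := c.ex 1 x
  rw [cj_one] at this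
  exact this hx hx1

/-- an element of `C(V)` multiplies `n_x` by `1` or `x` -/
theorem cent_cases (c : CV V nv) {t : G} (ht : t ∈ centralizer (V : Set G)) (hx : x ∈ V) (hx1 : x ≠ 1)
    (hn : nv x V n) : t * n * t⁻¹ = n ∨ t * n * t⁻¹ = x * n := by
  have h1 := c.conj1 (centralizer_le_normalizer _ ht) hx hx1 hn
  rw [conj_eq_of_comm (mem_centralizer_iff.mp ht x hx).symm] at h1
  exact c.uniq1 hx hx1 hn h1

end one

/-- (A): `K_p ∩ C(L)` centralises the canonical vectors of `L` -/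
def AA (V : Subgroup G) (nv : G → Subgroup G → G → Prop) : Prop :=
  ∀ p ∈ V, p ≠ 1 → ∀ x ∈ V, x ≠ 1 → ∀ k ∈ kq V p, k ∈ centralizer (V : Set G) → ∀ n, nv x V n →
    k * n * k⁻¹ = n

/-- (A) for one pair gives (A) for all -/
theorem aa_of (h : Fr T V z) (c : CV V nv) {p x n : G} (hp : p ∈ V) (hp1 : p ≠ 1) (hx : x ∈ V)
    (hx1 : x ≠ 1) (hxp : x ≠ p) (hn : nv x V n)
    (ha : ∀ k ∈ kq V p, k ∈ centralizer (V : Set G) → k * n * k⁻¹ = n) : AA V nv := by
  intro p' hp' hp'1 x' hx' hx'1 k hk hkV n' hn'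
  by_cases hxp' : x' = p'
  · subst hxp'
    exact conj_eq_of_comm ((mem_nn.mp (c.mem1 hx' hx'1 hn')).2 k hk)
  -- an element of `N(V)` which maps `(p, x)` to `(p', x')`
  obtain ⟨g, hg, hgp, hgx⟩ : ∃ g ∈ normalizer (V : Set G), g * p * g⁻¹ = p' ∧ g * x * g⁻¹ = x' := by
    obtain ⟨a, ha, hap⟩ := h.ln.trans p hp hp1
    obtain ⟨b, hb, hbp⟩ := h.ln.trans p' hp' hp'1
    set g := b * a⁻¹ with hg
    have hgn : g ∈ normalizer (V : Set G) := mul_mem hb (inv_mem ha)
    have hgp : g * p * g⁻¹ = p' := by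
      calc g * p * g⁻¹ = b * (a⁻¹ * p * a) * b⁻¹ := by rw [hg]; group
        _ = b * (a⁻¹ * (a * z * a⁻¹) * a) * b⁻¹ := by rw [hap]
        _ = b * z * b⁻¹ := by group
        _ = p' := hbp
    have hgx := conj_mem_of_normalizer le_rfl hgn hx
    have hgx1 : g * x * g⁻¹ ≠ 1 := fun e => hx1 (conj_eq_one_iff.mp e)
    have hgxp : g * x * g⁻¹ ≠ p' := by
      rw [← hgp]
      intro e
      exact hxp (by simpa using e)
    rcases h.ln.four hp' hx' hp'1 hx'1 (Ne.symm hxp') hgx with e | e | e | e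
    · exact absurd e hgx1
    · exact absurd e hgxp
    · exact ⟨g, hgn, hgp, e⟩
    · obtain ⟨m, hm, hm1⟩ := h.exists_mover hp' hp'1
      have e1 := h.move hp' hp'1 hgx hgx1 hgxp hm hm1
      refine ⟨m * g, mul_mem (h.kq_le_normalizer hp' hp'1 hm) hgn, ?_, ?_⟩
      · calc m * g * p * (m * g)⁻¹ = m * (g * p * g⁻¹) * m⁻¹ := by group
          _ = p' := by rw [hgp, conj_eq_of_comm (h.kq_p hm)]
      · calc m * g * x * (m * g)⁻¹ = m * (g * x * g⁻¹) * m⁻¹ := by group
          _ = p' * (p' * x') := by rw [e1, e]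
          _ = x' := by rw [← mul_assoc, h.ln.sq p' hp', one_mul]
  have h1 := c.conj1 hg hx hx1 hn
  rw [hgx] at h1
  -- `k` centralises `g n g⁻¹`
  have hk1 : g⁻¹ * k * g ∈ kq V p := by
    have := conj_mem_kq g⁻¹ hk
    have e : g⁻¹ * p' * g⁻¹⁻¹ = p := by rw [← hgp]; group
    rwa [e, inv_inv] at this
  have hk2 : g⁻¹ * k * g ∈ centralizer (V : Set G) :=
    conj_mem_of_normalizer' (normalizer_le_normalizer_centralizer V) hg hkV
  have h2 := ha _ hk1 hk2
  have h3 : k * (g * n * g⁻¹) * k⁻¹ = g * n * g⁻¹ := by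
    calc k * (g * n * g⁻¹) * k⁻¹ = g * (g⁻¹ * k * g * n * (g⁻¹ * k * g)⁻¹) * g⁻¹ := by group
      _ = g * n * g⁻¹ := by rw [h2]
  rcases c.uniq1 hx' hx'1 h1 hn' with e | e
  · rw [e, h3]
  · have hkx : k * x' * k⁻¹ = x' := conj_eq_of_comm (mem_centralizer_iff.mp hkV x' hx').symm
    calc k * n' * k⁻¹ = (k * x' * k⁻¹) * (k * (g * n * g⁻¹) * k⁻¹) := by rw [e]; group
      _ = n' := by rw [hkx, h3, e]

/-- (B): `t ∈ C(V)` which centralises `n_x` centralises `n_y` -/
theorem step_b (h : Fr T V z) (c : CV V nv) (hA : AA V nv) {x y n m t : G} (hx : x ∈ V) (hx1 : x ≠ 1)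
    (hy : y ∈ V) (hy1 : y ≠ 1) (hxy : x ≠ y) (hn : nv x V n) (hm : nv y V m)
    (ht : t ∈ centralizer (V : Set G)) (h1 : t * n * t⁻¹ = n) : t * m * t⁻¹ = m := by
  -- the third point
  set p := y * x with hp
  have hpV : p ∈ V := mul_mem hy hx
  have hp1 : p ≠ 1 := h.mul_ne_one hx (Ne.symm hxy)
  have hxp : x ≠ p := fun e => hy1 (by simpa [hp] using e.symm)
  obtain ⟨k, hk, hkc⟩ := h.exists_mover hpV hp1
  have e1 : k * x * k⁻¹ = y := by
    rw [h.move hpV hp1 hx hx1 hxp hk hkc, hp, mul_assoc, h.ln.sq x hx, mul_one]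
  have hkn := h.kq_le_normalizer hpV hp1 hk
  have h2 := c.conj1 hkn hx hx1 hn
  rw [e1] at h2
  -- `k' = t k t⁻¹`
  have htn : t ∈ normalizer (V : Set G) := centralizer_le_normalizer _ ht
  have htp : t * p * t⁻¹ = p := conj_eq_of_comm (mem_centralizer_iff.mp ht p hpV).symm
  have hk' : t * k * t⁻¹ ∈ kq V p := by
    have := conj_mem_kq t hk
    rwa [htp] at this
  have hq : k⁻¹ * (t * k * t⁻¹) ∈ kq V p := mul_mem (inv_mem hk) hk'
  have hqc : k⁻¹ * (t * k * t⁻¹) ∈ centralizer (V : Set G) := by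
    have e : k⁻¹ * (t * k * t⁻¹) = (k⁻¹ * t * k) * t⁻¹ := by group
    rw [e]
    exact mul_mem (conj_mem_of_normalizer' (normalizer_le_normalizer_centralizer V) hkn ht) (inv_mem ht)
  have h3 := hA p hpV hp1 x hx hx1 _ hq hqc n hn
  have h4 : t * (k * n * k⁻¹) * t⁻¹ = k * n * k⁻¹ := by
    calc t * (k * n * k⁻¹) * t⁻¹ =
        k * (k⁻¹ * (t * k * t⁻¹) * (t * n * t⁻¹) * (k⁻¹ * (t * k * t⁻¹))⁻¹) * k⁻¹ := by group
      _ = k * n * k⁻¹ := by rw [h1, h3]
  rcases c.uniq1 hy hy1 h2 hm with e | e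
  · rw [e, h4]
  · have hty : t * y * t⁻¹ = y := conj_eq_of_comm (mem_centralizer_iff.mp ht y hy).symm
    calc t * m * t⁻¹ = (t * y * t⁻¹) * (t * (k * n * k⁻¹) * t⁻¹) := by rw [e]; group
      _ = m := by rw [hty, h4, e]

/-- (C): for a mover `k ∈ K_p`, `n_x (k n_x k⁻¹)` is a canonical vector of the flag `(p, L)` -/
theorem step_c [Finite G] (h : Fr T V z) (c : CV V nv) (hA : AA V nv) (hcom : ∀ x ∈ V, ∀ y ∈ V, x ≠ 1 → y ≠ 1 →
    Com V x y) {p x n k : G} (hp : p ∈ V) (hp1 : p ≠ 1)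
    (hx : x ∈ V) (hx1 : x ≠ 1) (hxp : x ≠ p) (hn : nv x V n) (hk : k ∈ kq V p)
    (hkc : k ∉ centralizer (V : Set G)) : nv p V (n * (k * n * k⁻¹)) := by
  have e1 := h.move hp hp1 hx hx1 hxp hk hkc
  have hkn := h.kq_le_normalizer hp hp1 hk
  set y := p * x with hy
  have hyV : y ∈ V := mul_mem hp hx
  have hy1 : y ≠ 1 := h.mul_ne_one hx (Ne.symm hxp)
  have hyp : y ≠ p := fun e => hx1 (by simpa [hy] using e)
  have hyx : y ≠ x := fun e => hp1 (by simpa [hy] using e)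
  obtain ⟨a, ha⟩ := c.ex1 hp hp1
  have hd := c.conj1 hkn hx hx1 hn
  rw [e1] at hd
  set d := k * n * k⁻¹ with hdd
  have haW := (mem_nn.mp (c.mem1 hp hp1 ha)).1
  have hnW := (mem_nn.mp (c.mem1 hx hx1 hn)).1
  have hdW := (mem_nn.mp (c.mem1 hyV hy1 hd)).1
  -- commutations
  have can : a * n = n * a := hcom p hp x hx hp1 hx1 a haW n hnW
  have cad : a * d = d * a := hcom p hp y hyV hp1 hy1 a haW d hdW
  have cnd : n * d = d * n := hcom x hx y hyV hx1 hy1 n hnW d hdW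
  have sa := h.sq hp hp1 a haW
  have sn := h.sq hx hx1 n hnW
  have sd := h.sq hyV hy1 d hdW
  have cV : ∀ v ∈ V, ∀ q ∈ V, q ≠ 1 → ∀ w ∈ ws V q, v * w = w * v := fun v hv q hq hq1 w hw =>
    h.V_comm hv (h.ws_le_centralizer_V hq hq1 hw)
  -- `u = a n d` centralises `C(V)`
  have hu1 : a * n * d ∈ centralizer (V : Set G) :=
    mul_mem (mul_mem (h.ws_le_centralizer_V hp hp1 haW) (h.ws_le_centralizer_V hx hx1 hnW))
      (h.ws_le_centralizer_V hyV hy1 hdW)
  have hpxy : p * x * y = 1 := by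
    rw [hy, ← mul_assoc, mul_assoc p x p, h.ln.comm hx hp, ← mul_assoc, h.ln.sq p hp, one_mul,
      h.ln.sq x hx]
  have hu2 : ∀ t ∈ centralizer (V : Set G), t * (a * n * d) = a * n * d * t := by
    intro t ht
    apply comm_of_conj_eq
    rcases c.cent_cases ht hx hx1 hn with e | e
    · have e2 := step_b h c hA hx hx1 hp hp1 hxp hn ha ht e
      have e3 := step_b h c hA hx hx1 hyV hy1 (Ne.symm hyx) hn hd ht e
      calc t * (a * n * d) * t⁻¹ = (t * a * t⁻¹) * (t * n * t⁻¹) * (t * d * t⁻¹) := by group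
        _ = a * n * d := by rw [e2, e, e3]
    · have hne : t * n * t⁻¹ ≠ n := by
        rw [e]; intro e'; exact hx1 (by simpa using e')
      have e2 : t * a * t⁻¹ = p * a := by
        rcases c.cent_cases ht hp hp1 ha with e' | e'
        · exact absurd (step_b h c hA hp hp1 hx hx1 (Ne.symm hxp) ha hn ht e') hne
        · exact e'
      have e3 : t * d * t⁻¹ = y * d := by
        rcases c.cent_cases ht hyV hy1 hd with e' | e'
        · exact absurd (step_b h c hA hyV hy1 hx hx1 hyx hd hn ht e') hne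
        · exact e'
      calc t * (a * n * d) * t⁻¹ = (t * a * t⁻¹) * (t * n * t⁻¹) * (t * d * t⁻¹) := by group
        _ = p * a * (x * n) * (y * d) := by rw [e2, e, e3]
        _ = p * (a * x) * (n * y) * d := by group
        _ = p * (x * a) * (y * n) * d := by
            rw [cV x hx p hp hp1 a haW, cV y hyV x hx hx1 n hnW]
        _ = p * x * (a * y) * n * d := by group
        _ = p * x * (y * a) * n * d := by rw [cV y hyV p hp hp1 a haW]
        _ = (p * x * y) * (a * n * d) := by group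
        _ = a * n * d := by rw [hpxy, one_mul]
  have husq : a * n * d * (a * n * d) = 1 := by
    calc a * n * d * (a * n * d) = a * n * (d * a) * (n * d) := by group
      _ = a * (n * a) * d * (n * d) := by rw [← cad]; group
      _ = (a * a) * n * (d * n) * d := by rw [← can]; group
      _ = (a * a) * (n * n) * (d * d) := by rw [← cnd]; group
      _ = 1 := by rw [sa, sn, sd]; simp
  have huV := t6 h.ln hu1 hu2 husq
  -- `k` swaps `n` and `d` and fixes `a`
  have hka : k * a * k⁻¹ = a := conj_eq_of_comm ((mem_nn.mp (c.mem1 hp hp1 ha)).2 k hk)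
  have hkk : k * k ∈ centralizer (V : Set G) := by
    refine h.mem_centralizer_of hp hp1 hx hx1 hxp (mul_comm_of (h.kq_p hk) (h.kq_p hk)) ?_
    apply comm_of_conj_eq
    have hkp : k * p * k⁻¹ = p := conj_eq_of_comm (h.kq_p hk)
    calc k * k * x * (k * k)⁻¹ = k * (k * x * k⁻¹) * k⁻¹ := by group
      _ = k * (p * x) * k⁻¹ := by rw [e1]
      _ = (k * p * k⁻¹) * (k * x * k⁻¹) := by group
      _ = p * (p * x) := by rw [hkp, e1]
      _ = x := by rw [← mul_assoc, h.ln.sq p hp, one_mul]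
  have hkd : k * d * k⁻¹ = n := by
    have := hA p hp hp1 x hx hx1 _ (mul_mem hk hk) hkk n hn
    calc k * d * k⁻¹ = k * k * n * (k * k)⁻¹ := by rw [hdd]; group
      _ = n := this
  have hku : k * (a * n * d) * k⁻¹ = a * n * d := by
    calc k * (a * n * d) * k⁻¹ = (k * a * k⁻¹) * (k * n * k⁻¹) * (k * d * k⁻¹) := by group
      _ = a * d * n := by rw [hka, hkd]
      _ = a * n * d := by rw [mul_assoc, ← cnd, mul_assoc]
  have hnd : n * d = a * (a * n * d) := by
    calc n * d = (a * a) * (n * d) := by rw [sa, one_mul]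
      _ = a * (a * n * d) := by group
  rcases h.ln.four hp hx hp1 hx1 (Ne.symm hxp) huV with e | e | e | e
  · rw [hnd, e, mul_one]; exact ha
  · rw [hnd, e, ← cV p hp p hp hp1 a haW]; exact c.mul1 hp hp1 ha
  · exfalso
    rw [e, e1] at hku
    exact hyx hku
  · exfalso
    rw [e] at hku
    have hkp : k * p * k⁻¹ = p := conj_eq_of_comm (h.kq_p hk)
    have : k * (p * x) * k⁻¹ = x := by
      calc k * (p * x) * k⁻¹ = (k * p * k⁻¹) * (k * x * k⁻¹) := by group
        _ = p * (p * x) := by rw [hkp, e1, hy]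
        _ = x := by rw [← mul_assoc, h.ln.sq p hp, one_mul]
    rw [this] at hku
    exact hyx hku.symm

/-- **LEMMA S0** -/
theorem s0 [Finite G] (h : Fr T V z) (c : CV V nv) (hm : Mn V 2) {p x x' g g' n n' : G} (hp : p ∈ cj g V)
    (hx : x ∈ cj g V) (hp' : p ∈ cj g' V) (hx' : x' ∈ cj g' V) (hp1 : p ≠ 1) (hx1 : x ≠ 1) (hx1' : x' ≠ 1)
    (hxp : x ≠ p) (hxp' : x' ≠ p) (hne : x' ≠ x) (hnp : x' ≠ p * x)
    (hν : x * x' ∈ nn (ws V p) (kq V p)) (hn : nv x (cj g V) n) (hn' : nv x' (cj g' V) n') :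
    n * n' ∉ ws V p := by
  intro hw
  set w := n * n' with hwd
  obtain ⟨a, -, -, hf⟩ := h.flag hp hp1
  obtain ⟨a', -, -, hf'⟩ := h.flag hp' hp1
  have cL := c.cj' g
  have cL' := c.cj' g'
  have hpc : Col V p p := ⟨g, hp, hp, hp1, hp1⟩
  have hpx : Col V p x := ⟨g, hp, hx, hp1, hx1⟩
  have hpx' : Col V p x' := ⟨g', hp', hx', hp1, hx1'⟩
  have hcom : ∀ a b, Col V a b → Com V a b := fun a b hab => hm 1 (by omega) a b (Pth.of_col hab)
  have hnW : n ∈ ws V x := (mem_nn.mp (c.mem _ _ _ hx hx1 hn)).1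
  have hnW' : n' ∈ ws V x' := (mem_nn.mp (c.mem _ _ _ hx' hx1' hn')).1
  have hxW : x ∈ ws V p := h.mem_ws_of_col hpx
  have hxW' : x' ∈ ws V p := h.mem_ws_of_col hpx'
  have hpW : p ∈ ws V p := h.mem_ws_self hpc
  have xx := h.pt_sq hpx.right
  have xx' := h.pt_sq hpx'.right
  have pp := h.pt_sq hpc
  have hνK : ∀ k ∈ kq V p, k * (x * x') = x * x' * k := (mem_nn.mp hν).2
  have hkp : ∀ k ∈ kq V p, k * p = p * k := fun k hk =>
    mem_centralizer_singleton_iff.mp (kq_le_centralizer V p hk)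
  -- `k ∈ K_p`: `C(L)` iff `C(L')`
  have hLL' : ∀ k ∈ kq V p, k ∈ centralizer ((cj g V : Subgroup G) : Set G) →
      k ∈ centralizer ((cj g' V : Subgroup G) : Set G) := by
    intro k hk hkL
    have e1 : k * x = x * k := (mem_centralizer_iff.mp hkL x hx).symm
    have e2 : k * x' = x' * k := by
      have h3 := comm_mul_of (comm_inv_of e1) (hνK k hk)
      rwa [inv_mul_cancel_left] at h3
    exact hf'.mem_centralizer_of hp' hp1 hx' hx1' hxp' (hkp k hk) e2
  have hL'L : ∀ k ∈ kq V p, k ∈ centralizer ((cj g' V : Subgroup G) : Set G) →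
      k ∈ centralizer ((cj g V : Subgroup G) : Set G) := by
    intro k hk hkL
    have e1 : k * x' = x' * k := (mem_centralizer_iff.mp hkL x' hx').symm
    have e2 : k * x = x * k := by
      have h3 := comm_mul_of (hνK k hk) e1
      rwa [mul_assoc, xx', mul_one] at h3
    exact hf.mem_centralizer_of hp hp1 hx hx1 hxp (hkp k hk) e2
  -- (a)
  have hfix : ∀ k ∈ kq V p, k ∈ centralizer ((cj g V : Subgroup G) : Set G) →
      k * n * k⁻¹ = n ∧ k * n' * k⁻¹ = n' := by
    intro k hk hkL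
    have e1 := cL.cent_cases hkL hx hx1 hn
    have e2 := cL'.cent_cases (hLL' k hk hkL) hx' hx1' hn'
    have e3 := h.kq_cases' hpc hk hw
    have e4 : k * w * k⁻¹ = (k * n * k⁻¹) * (k * n' * k⁻¹) := by rw [hwd]; group
    have cx'n : x' * n = n * x' := hcom p x hpx x' hxW' n hnW
    rw [e4] at e3
    rcases e1 with e1 | e1 <;> rcases e2 with e2 | e2
    · exact ⟨e1, e2⟩
    · exfalso
      rw [e1, e2] at e3
      have e5 : n * (x' * n') = x' * w := by rw [hwd, ← mul_assoc, ← cx'n, mul_assoc]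
      rw [e5] at e3
      rcases e3 with e | e
      · exact hx1' (by simpa using e)
      · exact hxp' (mul_right_cancel e)
    · exfalso
      rw [e1, e2] at e3
      have e5 : x * n * n' = x * w := by rw [hwd, mul_assoc]
      rw [e5] at e3
      rcases e3 with e | e
      · exact hx1 (by simpa using e)
      · exact hxp (mul_right_cancel e)
    · exfalso
      rw [e1, e2] at e3
      have e5 : x * n * (x' * n') = x * x' * w := by
        calc x * n * (x' * n') = x * (n * x') * n' := by group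
          _ = x * x' * w := by rw [← cx'n, hwd]; group
      rw [e5] at e3
      rcases e3 with e | e
      · have e6 : x * x' = 1 := by simpa using e
        apply hne
        calc x' = x * (x * x') := by rw [← mul_assoc, xx, one_mul]
          _ = x := by rw [e6, mul_one]
      · have e6 : x * x' = p := mul_right_cancel e
        apply hnp
        calc x' = x * (x * x') := by rw [← mul_assoc, xx, one_mul]
          _ = p * x := by rw [e6, h.ws_comm hpc x hxW p hpW]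
  have hA : AA (cj g V) nv := by
    refine aa_of hf cL hp hp1 hx hx1 hxp hn fun k hk hkL => ?_
    rw [kq_cj] at hk
    exact (hfix k hk hkL).1
  have hA' : AA (cj g' V) nv := by
    refine aa_of hf' cL' hp' hp1 hx' hx1' hxp' hn' fun k hk hkL => ?_
    rw [kq_cj] at hk
    exact (hfix k hk (hL'L k hk hkL)).2
  have hcomL : ∀ g : G, ∀ a ∈ cj g V, ∀ b ∈ cj g V, a ≠ 1 → b ≠ 1 → Com (cj g V) a b := by
    intro g a ha b hb ha1 hb1
    unfold Com
    rw [ws_cj, ws_cj]
    exact hcom a b ⟨g, ha, hb, ha1, hb1⟩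
  -- a mover
  obtain ⟨k, hk, hkL⟩ := hf.exists_mover hp hp1
  have e1 := hf.move hp hp1 hx hx1 hxp hk hkL
  have hkV := hk
  rw [kq_cj] at hkV
  have hkL' : k ∉ centralizer ((cj g' V : Subgroup G) : Set G) := fun e => hkL (hL'L k hkV e)
  have hk' : k ∈ kq (cj g' V) p := by rwa [kq_cj]
  have hα := step_c hf cL hA (hcomL g) hp hp1 hx hx1 hxp hn hk hkL
  have hα' := step_c hf' cL' hA' (hcomL g') hp' hp1 hx' hx1' hxp' hn' hk' hkL'
  set m := k * n * k⁻¹ with hmd
  set m' := k * n' * k⁻¹ with hmd'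
  -- `m` commutes with `n'`
  have hmW : m ∈ ws V (p * x) := by
    rw [← e1]
    exact conj_mem_ws k hnW
  have hpxL : p * x ∈ cj g V := mul_mem hp hx
  have hpx1 : p * x ≠ 1 := hf.mul_ne_one hx (Ne.symm hxp)
  have c1 : m * w = w * m := hcom (p * x) p ⟨g, hpxL, hp, hpx1, hp1⟩ m hmW w hw
  have c2 : m * n = n * m := hcom (p * x) x ⟨g, hpxL, hx, hpx1, hx1⟩ m hmW n hnW
  have c3 : m * n' = n' * m := by
    have h3 := comm_mul_of (comm_inv_of c2) c1
    rw [hwd] at h3
    rwa [inv_mul_cancel_left] at h3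
  have hprod : w * (k * w * k⁻¹) = n * m * (n' * m') := by
    calc w * (k * w * k⁻¹) = n * (n' * m) * m' := by rw [hwd, hmd, hmd']; group
      _ = n * m * (n' * m') := by rw [← c3]; group
  have hαW := (mem_nn.mp (c.mem _ _ _ hp hp1 hα)).1
  have sα := h.ws_sq hpc _ hαW
  have sw := h.ws_sq hpc _ hw
  have haux : ∀ α β : G, α * α = 1 → α * (α * β) = β := fun α β e => by rw [← mul_assoc, e, one_mul]
  have key : n' * m' = n * m ∨ n' * m' = p * (n * m) := by
    rcases h.kq_cases' hpc hkV hw with e | e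
    · left
      rw [e, sw] at hprod
      calc n' * m' = n * m * (n * m * (n' * m')) := (haux _ _ sα).symm
        _ = n * m := by rw [← hprod, mul_one]
    · right
      have e5 : w * (p * w) = p := by
        rw [← mul_assoc, h.ws_comm hpc w hw p hpW, mul_assoc, sw, mul_one]
      rw [e, e5] at hprod
      calc n' * m' = n * m * (n * m * (n' * m')) := (haux _ _ sα).symm
        _ = n * m * p := by rw [← hprod]
        _ = p * (n * m) := h.ws_comm hpc _ hαW p hpW
  have hν' : x⁻¹ * x' ∈ nn (ws V p) (kq V p) := by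
    have : x⁻¹ = x := inv_eq_of_mul_eq_one_right xx
    rwa [this]
  rcases c.inj g g' p x x' _ _ hp hx hp' hx' hp1 hx1 hx1' hxp hxp' hν' hα hα' key with e | e
  · exact hne e
  · exact hnp e

end CV

/-- a system of canonical vectors gives a `CV` -/
theorem Can.cv {T V : Subgroup G} {z : G} {NV : G → Subgroup G → G → Prop} (h : Fr T V z) (hc : Can V NV) :
    CV V NV where
  mem _ _ _ _ _ h3 := hc.mem h3
  mul _ _ _ _ _ h3 := hc.mulx h3
  uniq _ _ _ _ _ _ h3 h4 := hc.uniq h3 h4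
  conj c _ _ _ _ _ h3 := hc.conj c h3
  ex _ _ h1 h2 := hc.ex h1 h2
  inj := by
    intro g g' p x x' n n' hp hx hp' hx' hp1 hx1 hx1' hxp hxp' hν hn hn' hnn
    have hpc : Col V p p := ⟨g, hp, hp, hp1, hp1⟩
    have pp := h.pt_sq hpc
    have xx := h.pt_sq (show Col V x x from ⟨g, hx, hx, hx1, hx1⟩)
    have xx' := h.pt_sq (show Col V x' x' from ⟨g', hx', hx', hx1', hx1'⟩)
    have hzp : ∀ y : G, y ≠ 1 → y ≠ p → y ∉ zpowers p := by
      intro y hy hyp hy'
      rcases (mem_zpowers_iff_of_mul_self pp).mp hy' with e | e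
      · exact hy e
      · exact hyp e
    have hν' : x * x' ∈ nn (ws V p) (kq V p) := by
      have e : x⁻¹ = x := inv_eq_of_mul_eq_one_right xx
      rwa [e] at hν
    have h1 := hc.shift hn hn' hp hp' hx hx' (hzp x hx1 hxp) (hzp x' hx1' hxp') hν'
    have hnW := (mem_nn.mp (hc.mem hn)).1
    have nn1 := h.ws_sq hpc n hnW
    have hpW : p ∈ ws V p := h.mem_ws_self hpc
    have h2 : x * x' ∈ zpowers p := by
      have h3 : n * n' ∈ zpowers p := by
        rcases hnn with e | e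
        · rw [e, nn1]; exact one_mem _
        · have : n * n' = p := by
            rw [e, ← mul_assoc, h.ws_comm hpc n hnW p hpW, mul_assoc, nn1, mul_one]
          rw [this]; exact mem_zpowers p
      have h4 := mul_mem (inv_mem h3) h1
      rwa [inv_mul_cancel_left] at h4
    rcases (mem_zpowers_iff_of_mul_self pp).mp h2 with e | e
    · left
      calc x' = x * (x * x') := by rw [← mul_assoc, xx, one_mul]
        _ = x := by rw [e, mul_one]
    · right
      have hxW : x ∈ ws V p := h.mem_ws_of_col ⟨g, hp, hx, hp1, hx1⟩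
      calc x' = x * (x * x') := by rw [← mul_assoc, xx, one_mul]
        _ = p * x := by rw [e, h.ws_comm hpc x hxW p hpW]

/-- **LEMMA S0**, (6) of helper56 #21024 -/
theorem sZero [Finite G] {T V : Subgroup G} {z : G} {NV : G → Subgroup G → G → Prop} (h : Fr T V z)
    (hm : Mn V 2) (hc : Can V NV) : SZero V NV := by
  intro p x x' g g' n n' hp hx hp' hx' hp1 hx1 hx1' hxp hxp' h1 h2 h3 h4 h5
  exact (hc.cv h).s0 h hm hp hx hp' hx' hp1 hx1 hx1' hxp hxp' h1 h2 h3 h4 h5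

end Cfsg.Agent.Omega.NO3S.WZero

end
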